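import Groth.Agent.Lib.LocFreeHom.Basic
import Groth.Agent.Lib.HomRestrict20.Basic
import Groth.Agent.Lib.RegSheaf.PullTwist
import Groth.Agent.Lib.Euler.TensorSupport
import Groth.Agent.Lib.Euler.Coh
import Groth.Agent.Lib.Cohom.RpushModules
import Groth.Agent.Lib.DegDet.Stalk
import Groth.Agent.Lib.LocFreeDual20.Ext
import Groth.Agent.Lib.OX.RHomDual
import Groth.Agent.Lib.OX.FlatLocFree

/-!
# The dual of a coherent module is coherent
-/

set_option autoImplicit false
set_option linter.style.haveILetI false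
set_option maxHeartbeats 100000
set_option backward.isDefEq.respectTransparency false
universe u

noncomputable section

open CategoryTheory CategoryTheory.Limits AlgebraicGeometry MonoidalCategory TopologicalSpace

namespace GrothLib.HilbObs26

open LocFreeHom

attribute [local instance] LocFreeHom.hasSheafHom

variable {X : Scheme.{u}}

theorem hMap_zero (A F G : X.Modules) : hMap (0 : A ⟶ F) G = 0 := map_zero (hMapHom A F G)

theorem wh_epi {A B : X.Modules} (b : A ⟶ B) [Epi b] (P : X.Modules) : Epi (wh b P) := by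
  let e := fun M : X.Modules => (((OX.tensorBraiding (X := X)).app M).app P).symm
  haveI : PreservesColimitsOfSize.{0, 0} (T P) := (DCoh.sheafHomAdj P).leftAdjoint_preservesColimits
  have h : wh b P ≫ (e B).hom = (e A).hom ≫ (T P).map b :=
    congrArg (fun t => NatTrans.app t P) ((OX.tensorBraiding (X := X)).inv.naturality b)
  have h' : wh b P = (e A).hom ≫ (T P).map b ≫ (e B).inv := by rw [← Category.assoc, ← h, Category.assoc, Iso.hom_inv_id, Category.comp_id]
  rw [h']
  infer_instance

theorem wh_exact {S : ShortComplex X.Modules} (hS : S.Exact) [Epi S.g] (P : X.Modules)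
    {N : X.Modules} (u : (T S.X₂).obj P ⟶ N) (hu : wh S.f P ≫ u = 0) : ∃ v, wh S.g P ≫ v = u := by
  let e := fun M : X.Modules => (((OX.tensorBraiding (X := X)).app M).app P).symm
  have h : ∀ {A B : X.Modules} (b : A ⟶ B), wh b P ≫ (e B).hom = (e A).hom ≫ (T P).map b := fun b =>
    congrArg (fun t => NatTrans.app t P) ((OX.tensorBraiding (X := X)).inv.naturality b)
  haveI : PreservesColimitsOfSize.{0, 0} (T P) := (DCoh.sheafHomAdj P).leftAdjoint_preservesColimits
  haveI : (T P).PreservesZeroMorphisms := Functor.preservesZeroMorphisms_of_isLeftAdjoint _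
  have hc := CokernelCofork.mapIsColimit _ hS.gIsCokernel (T P)
  have hz : (T P).map S.f ≫ (e S.X₂).inv ≫ u = 0 := by
    rw [← cancel_epi (e S.X₁).hom, comp_zero, ← Category.assoc, ← h, Category.assoc, Iso.hom_inv_id_assoc, hu]
  refine ⟨(e S.X₃).hom ≫ hc.desc (CokernelCofork.ofπ _ hz), ?_⟩
  rw [← Category.assoc, h, Category.assoc]
  refine (congrArg ((e S.X₂).hom ≫ ·) (Cofork.IsColimit.π_desc hc)).trans ?_
  exact Iso.hom_inv_id_assoc _ _

theorem hMap_mono {A B : X.Modules} (b : A ⟶ B) [Epi b] (G : X.Modules) : Mono (hMap b G) := by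
  refine Preadditive.mono_of_cancel_zero _ fun {P} k hk => hom_ext ?_
  haveI := wh_epi b P
  rw [← cancel_epi (wh b P), ← uncurry_comp_hMap, hk]
  simp [uncurry, wh]

theorem hMap_exact {S : ShortComplex X.Modules} (hS : S.Exact) [Epi S.g] (G : X.Modules) :
    Nonempty (iHom S.X₃ G ≅ kernel (hMap S.f G)) := by
  have hz : hMap S.g G ≫ hMap S.f G = 0 := by rw [← hMap_comp, S.zero, hMap_zero]
  haveI := hMap_mono S.g G
  refine ⟨(IsLimit.conePointUniqueUpToIso
    (KernelFork.IsLimit.ofι' (hMap S.g G) hz fun {P} k hk => Classical.indefiniteDescription _ ?_)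
    (limit.isLimit _))⟩
  obtain ⟨v, hv⟩ := wh_exact hS P (uncurry k) (by
    rw [← uncurry_comp_hMap, hk]
    simp [uncurry])
  refine ⟨curry v, hom_ext ?_⟩
  rw [uncurry_comp_hMap, uncurry_curry, hv]

theorem isCoh_dual_affine [IsAffine X] [IsLocallyNoetherian X] {F : X.Modules} (hF : Coh.IsCoh F) :
    Coh.IsCoh (iHom F (Coh.structureModule X)) := by
  obtain ⟨n, p, hp⟩ := RegSheaf.exists_freeMod_epi hF
  have hK : Coh.IsCoh (kernel p) := QCoh.isCoh_kernel p (DegDet.isCoh_freeMod X n) hF
  obtain ⟨m, q, hq⟩ := RegSheaf.exists_freeMod_epi hK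
  let S := ShortComplex.mk (q ≫ kernel.ι p) p (by simp)
  have hS : S.Exact := by
    refine S.exact_iff_epi_kernel_lift.2 ?_
    rw [show kernel.lift S.g S.f S.zero = q from (cancel_mono (kernel.ι p)).1 (kernel.lift_ι _ _ _)]
    exact hq
  haveI : Epi S.g := hp
  obtain ⟨e⟩ := hMap_exact hS (Coh.structureModule X)
  have h1 : FlatMod.IsFinLocFree (Coh.structureModule X) := OX.isFinLocFree_structureModule X
  exact QCoh.isCoh_of_iso e.symm (QCoh.isCoh_kernel _
    (Euler.isCoh_of_isFinLocFree (isFinLocFree_iHom (OX.isFinLocFree_freeMod X n) h1))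
    (Euler.isCoh_of_isFinLocFree (isFinLocFree_iHom (OX.isFinLocFree_freeMod X m) h1)))

/-- The dual of a coherent module on a locally Noetherian scheme is coherent. -/
theorem isCoh_dual [IsLocallyNoetherian X] {F : X.Modules} (hF : Coh.IsCoh F) :
    Coh.IsCoh ((DCoh.sheafHom F).obj (Coh.structureModule X)) := by
  refine Euler.isCoh_of_restrict fun x => ?_
  obtain ⟨U₀, hU, hxU, -⟩ := Opens.isBasis_iff_nbhd.1 X.isBasis_affineOpens (Opens.mem_top x)
  let U : X.Opens := U₀
  haveI : IsAffine (U : Scheme.{u}) := hU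
  haveI : IsLocallyNoetherian (U : Scheme.{u}) := isLocallyNoetherian_of_isOpenImmersion U.ι
  haveI : ModSite.HasSheafHom (O := X.sheaf) F := SheafCoh.hasSheafHom _ _
  haveI : ModSite.HasSheafHom (O := (U : Scheme.{u}).sheaf) ((Scheme.Modules.restrictFunctor U.ι).obj F) :=
    SheafCoh.hasSheafHom _ _
  let F' := (Scheme.Modules.restrictFunctor U.ι).obj F
  have hc : Coh.IsCoh ((DCoh.sheafHom F').obj (Coh.structureModule (U : Scheme.{u}))) :=
    isCoh_dual_affine (Cohom.isCoh_restrict F hF U.ι)
  let a : (DCoh.sheafHom F).obj (Coh.structureModule X) ≅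
      (ModSite.sheafHom (O := X.sheaf) F).obj (Coh.structureModule X) :=
    ((LocFreeDual20.siteHomIso F).app (Coh.structureModule X)).symm
  let b : (Scheme.Modules.restrictFunctor U.ι).obj ((ModSite.sheafHom (O := X.sheaf) F).obj (Coh.structureModule X)) ≅
      (ModSite.sheafHom (O := (U : Scheme.{u}).sheaf) F').obj
        ((Scheme.Modules.restrictFunctor U.ι).obj (Coh.structureModule X)) :=
    (HomRestrict20.sheafHomRestrictIso U.ι F).app (Coh.structureModule X)
  let c : (ModSite.sheafHom (O := (U : Scheme.{u}).sheaf) F').obj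
        ((Scheme.Modules.restrictFunctor U.ι).obj (Coh.structureModule X)) ≅
      (DCoh.sheafHom F').obj ((Scheme.Modules.restrictFunctor U.ι).obj (Coh.structureModule X)) :=
    (LocFreeDual20.siteHomIso F').app _
  let d : (DCoh.sheafHom F').obj ((Scheme.Modules.restrictFunctor U.ι).obj (Coh.structureModule X)) ≅
      (DCoh.sheafHom F').obj (Coh.structureModule (U : Scheme.{u})) :=
    (DCoh.sheafHom F').mapIso (Scheme.Modules.restrictUnitIso U.ι)
  let t : (Scheme.Modules.restrictFunctor U.ι).obj ((DCoh.sheafHom F).obj (Coh.structureModule X)) ≅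
      (DCoh.sheafHom F').obj (Coh.structureModule (U : Scheme.{u})) :=
    (Scheme.Modules.restrictFunctor U.ι).mapIso a ≪≫ b ≪≫ c ≪≫ d
  exact ⟨U, hxU, QCoh.isCoh_of_iso t.symm hc⟩

end GrothLib.HilbObs26
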