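import Groth.Agent.Lib.HilbObs26.Combine
import Groth.Agent.Lib.LocalHilb26.Bijective
import Groth.Agent.Lib.ArtFun.LeastIdeal

/-!
# The obstruction theory of the local Hilbert functor
-/

set_option autoImplicit false
set_option maxHeartbeats 800000
set_option backward.isDefEq.respectTransparency false
universe u

noncomputable section

open CategoryTheory CategoryTheory.Limits AlgebraicGeometry TensorProduct

namespace GrothLib.HilbObs26

open _root_.ArtFun _root_.ArtFun.Art GrothLib.IdealModSec GrothLib.LocalHilb26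
open GrothLib.Euler (smulMod smulMod_app)

attribute [local instance] LocFreeHom.hasSheafHom

section Scalars

variable {k : Type u} [CommRing k] {X : Scheme.{u}} [X.Over (Spec (CommRingCat.of k))]

theorem hhMap_add {M N : X.Modules} (f g : M ⟶ N) (n : ℕ) :
    Cohom.hhMap k (f + g) n = Cohom.hhMap k f n + Cohom.hhMap k g n := LinearMap.ext fun x => by
  rw [LinearMap.add_apply, Cohom.hhMap_apply, Cohom.hhMap_apply, Cohom.hhMap_apply, Cohom.H_map_eq_comp,
    Cohom.H_map_eq_comp, Cohom.H_map_eq_comp, Functor.map_add, Abelian.Ext.mk₀_add]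
  exact Abelian.Ext.comp_add (C := Cohom.AbSheaf X) _ _ _ _

/-- Cohomology as an additive function of the morphism. -/
def hhMapHom (M N : X.Modules) (n : ℕ) : (M ⟶ N) →+ (Coh.HH X M n →ₗ[k] Coh.HH X N n) :=
  AddMonoidHom.mk' (fun f => Cohom.hhMap k f n) fun f g => hhMap_add f g n

theorem hhMap_smulMod (M : X.Modules) (c : k) (n : ℕ) (x : Coh.HH X M n) :
    Cohom.hhMap k (smulMod M (Coh.toGlobal (X ↘ Spec (CommRingCat.of k)) c)) n x = c • x := rfl

theorem hhMap_comp' {M N P : X.Modules} (f : M ⟶ N) (g : N ⟶ P) (n : ℕ) (x : Coh.HH X M n) :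
    Cohom.hhMap k (f ≫ g) n x = Cohom.hhMap k g n (Cohom.hhMap k f n x) := by
  rw [Cohom.hhMap_apply, Cohom.hhMap_apply, Cohom.hhMap_apply, Functor.map_comp, Sheaf.H.map_comp_apply]

theorem LiftsLocally.map {S S' : ShortComplex X.Modules} {E : X.Modules} {f₀ : E ⟶ S.X₃} {f₀' : E ⟶ S'.X₃}
    (h : LiftsLocally S f₀) (α : S ⟶ S') (hf : f₀ ≫ α.τ₃ = f₀') : LiftsLocally S' f₀' := fun x => by
  obtain ⟨W, hx, l, hl⟩ := h x
  refine ⟨W, hx, l ≫ (Scheme.Modules.restrictFunctor W.ι).map α.τ₂, ?_⟩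
  rw [Category.assoc, ← Functor.map_comp, α.comm₂₃, Functor.map_comp, ← Category.assoc, hl, ← Functor.map_comp, hf]

/-- Expansion of a linear combination of coordinate maps. -/
theorem hhMap_sum_smul {ι : Type*} [Fintype ι] (E : X.Modules) {P Q : X.Modules} (π : ι → (P ⟶ Q)) (a : ι → k)
    (x : Coh.HH X ((DCoh.sheafHom E).obj P) 1) :
    Cohom.hhMap k ((DCoh.sheafHom E).map
        (∑ j, π j ≫ smulMod Q (Coh.toGlobal (X ↘ Spec (CommRingCat.of k)) (a j)))) 1 x =
      ∑ j, a j • Cohom.hhMap k ((DCoh.sheafHom E).map (π j)) 1 x := by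
  haveI : PreservesLimitsOfSize.{0, 0} (DCoh.sheafHom E) := (DCoh.sheafHomAdj E).rightAdjoint_preservesLimits
  haveI : (DCoh.sheafHom E).Additive := Functor.additive_of_preserves_binary_products _
  rw [Functor.map_sum]
  refine (LinearMap.congr_fun (map_sum (hhMapHom _ _ 1) _ _) x).trans ?_
  rw [LinearMap.sum_apply]
  refine Finset.sum_congr rfl fun j _ => ?_
  show Cohom.hhMap k ((DCoh.sheafHom E).map (_ ≫ _)) 1 _ = _
  rw [Functor.map_comp, hhMap_comp', sheafHom_map_smulMod]
  exact hhMap_smulMod _ _ _ _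

end Scalars

variable {k : Type u} [Field k] {Y : Scheme.{u}} (y : Y ⟶ specPt k) (I₀ : Y.IdealSheafData) {A' A : Art k k}
  (p : A' ⟶ A) (I : (localHilb Y y I₀).obj A)

section Sigma

variable {t : A'.carrier} (hp : Function.Surjective p) (ht : RingHom.ker p.toAlgHom = Ideal.span {t}) (ht0 : t ≠ 0)
  (hmax : ∀ a ∈ IsLocalRing.maximalIdeal A'.carrier, a * t = 0)

include hp ht ht0 hmax in
/-- A lift splits the extension. -/
theorem exists_sigma_of_lift {I' : (localHilb Y y I₀).obj A'} (hI' : (localHilb Y y I₀).map p I' = I) :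
    ∃ σ : ClSub.idealMod I₀ ⟶ ext2 y I₀ p I, σ ≫ ext2π y I₀ p I = sqProj I₀ := by
  have hJ : ∀ U : Y.affineOpens, (I'.1.ideal (chart y A' U)).map (res y p U).hom = I.1.ideal (chart y A U) :=
    fun U => by rw [← hI', ← ideal_comap]; rfl
  have hflat := (flatOver_iff y A' I'.1).1 I'.2.1
  have hJP : ∀ U, ∀ z ∈ I'.1.ideal (chart y A' U), z ∈ (Ps y I₀ p I).ideal (chart y A' U) := fun U z hz =>
    (mem_Ps y I₀ p I).2 ((hJ U).le (Ideal.mem_map_of_mem _ hz))
  have hm : ∀ (U : Y.affineOpens) (z : {z // z ∈ I'.1.ideal (chart y A' U)}),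
      ∃ m, val I₀ U.1 m = (fibP y A' U).hom z.1 := fun U z =>
    exists_val_eq I₀ U (fibP_mem_of_Ps y I₀ p I (hJP U z.1 z.2))
  choose sv hsv using hm
  have he : ∀ (U : Y.affineOpens) (z : {z // z ∈ I'.1.ideal (chart y A' U)}),
      ∃ e, (extι y I₀ p I (K2 y I₀ p I) (K2_le y I₀ p I)).app U.1 e = mkN y _ U.1 z.1 :=
    fun U z => exists_extι_eq y I₀ p I _ _ (hJP U z.1 z.2)
  choose g hg using he
  have hinjι := fun U : Y.affineOpens => extι_injective y I₀ p I (K2 y I₀ p I) (K2_le y I₀ p I) U.1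
  have hinjv := fun U : Y.affineOpens => val_injective I₀ U.1
  have hsurj : ∀ U m, ∃ z, sv U z = m := by
    intro U m
    have hmem := val_mem I₀ U m
    rw [← ideal_incl y I₀ I'.1 I'.2.2 U] at hmem
    obtain ⟨z, hz, hz'⟩ := (Ideal.mem_map_iff_of_surjective _ fun b => ⟨_, fibP_incI y A' U b⟩).1 hmem
    exact ⟨⟨z, hz⟩, hinjv U ((hsv U ⟨z, hz⟩).trans hz')⟩
  refine (exists_hom_of_surj (M := ClSub.idealMod I₀) (N := ext2 y I₀ p I)
    (fun U => {z // z ∈ I'.1.ideal (chart y A' U)}) sv g hsurj ?_ ?_ ?_ ?_).elim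
    fun σ hσ => ⟨σ, AffHom.hom_ext fun U m => ?_⟩
  · intro U a b hab
    refine hinjι U ?_
    rw [hg, hg, mkN_eq_iff]
    refine sub_mem_K2_of_lift y I₀ p I hp ht ht0 hmax (hJ U) (hflat U) (Ideal.sub_mem _ a.2 b.2) ?_
    rw [map_sub, ← hsv U a, ← hsv U b, hab, sub_self]
  · intro U a b
    refine ⟨⟨a.1 + b.1, Ideal.add_mem _ a.2 b.2⟩, hinjv U ?_, hinjι U ?_⟩
    · refine (hsv U _).trans ?_
      rw [map_add, ← hsv, ← hsv]
      exact (map_add ((ClSub.idealModι I₀).app _).hom _ _).symm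
    · refine (hg U _).trans ?_
      rw [mkN_add, ← hg, ← hg]
      exact (map_add ((extι y I₀ p I _ _).app _).hom _ _).symm
  · intro U r a
    refine ⟨⟨(incI y A' U).hom r * a.1, Ideal.mul_mem_left _ _ a.2⟩, hinjv U ?_, hinjι U ?_⟩
    · refine (hsv U _).trans ?_
      rw [map_mul, fibP_incI, ← hsv]
      exact (val_smul I₀ _ r _).symm
    · refine (hg U _).trans ?_
      rw [← mkN_smul, ← hg]
      exact (Scheme.Modules.Hom.app_smul (extι y I₀ p I _ _) r _).symm
  · intro U V h a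
    refine ⟨⟨(rs y A' h).hom a.1, ?_⟩, hinjv V ?_, hinjι V ?_⟩
    · exact I'.1.ideal_le_comap_ideal (U := chart y A' V) (V := chart y A' U)
        ((pullback.fst y (specOver A')).preimage_mono h) a.2
    · refine (hsv V _).trans ?_
      rw [fibP_rs, ← hsv]
      exact (val_mres I₀ h _).symm
    · refine (hg V _).trans ?_
      rw [← mkN_map, ← hg]
      exact (app_map (extι y I₀ p I _ _) h _).symm
  · obtain ⟨z, rfl⟩ := hsurj U m
    rw [app_comp_apply, hσ]
    exact sqMod_injective I₀ U.1 ((ext2π_rep y I₀ p I (hg U z)).trans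
      ((congrArg (qr (I₀ * I₀) U.1) (hsv U z).symm).trans (sqProj_spec I₀ _ _).symm))

end Sigma

variable (hp : Art.IsSemismallExt p) {n : ℕ} (b : Module.Basis (Fin n) k ↥(RingHom.ker p.toAlgHom))

/-- A lift exists if it exists in every coordinate. -/
theorem exists_lift_iff_coord :
    (∃ I' : (localHilb Y y I₀).obj A', (localHilb Y y I₀).map p I' = I) ↔
      ∀ i, ∃ I' : (localHilb Y y I₀).obj _, (localHilb Y y I₀).map (coordMap p hp b i) I' = I := by
  constructor
  · rintro ⟨I', rfl⟩ i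
    refine ⟨(localHilb Y y I₀).map (coordMk p hp b i) I', ?_⟩
    rw [GrothLib.ArtFun.map_map, Art.quotMk_quotFactor]
  · intro h
    obtain ⟨J₀, ⟨hJ, hJm, z, hz⟩, hmin⟩ := GrothLib.ArtFun.exists_least_lift
      (F := localHilb Y y I₀) (fun _ _ _ _ _ _ _ _ hs hf => (bijective_cmp y I₀ hs hf).2) hp I
    obtain rfl : J₀ = ⊥ := by
      refine eq_bot_iff.2 fun x hx => ?_
      have hxk : x ∈ RingHom.ker p.toAlgHom := hJ hx
      have h0 : b.repr ⟨x, hxk⟩ = 0 := Finsupp.ext fun i => by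
        obtain ⟨I', hI'⟩ := h i
        obtain ⟨_, e⟩ := coord_others p hp b
          (hmin (others p b i) ⟨others_le_ker p b i, others_le_max p hp b i, I', hI'⟩ hx)
        exact e
      have := congrArg Subtype.val (b.repr.map_eq_zero_iff.1 h0)
      exact (Ideal.mem_bot).2 this
    have hb : Function.Bijective (Art.quotMk A' ⊥ hJm) :=
      ⟨fun a a' e => sub_eq_zero.1 ((Ideal.mem_bot).1 (Ideal.Quotient.eq.1 e)), Art.quotMk_surjective _ _ _⟩
    haveI := GrothLib.ArtFun.isIso_of_bijective _ hb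
    refine ⟨(localHilb Y y I₀).map (inv (Art.quotMk A' ⊥ hJm)) z, ?_⟩
    rw [GrothLib.ArtFun.map_map, show inv (Art.quotMk A' ⊥ hJm) ≫ p = Art.quotFactor hJm p hJ by
      rw [IsIso.inv_comp_eq, Art.quotMk_quotFactor]]
    exact hz

theorem coordMk_ker {v : A'.carrier} (hv : v ∈ RingHom.ker p.toAlgHom) (i : Fin n) :
    (coordMk p hp b i).toAlgHom v = b.repr ⟨v, hv⟩ i • (coordMk p hp b i).toAlgHom (b i : A'.carrier) := by
  have h : ∑ j, b.repr ⟨v, hv⟩ j • (b j : A'.carrier) = v := by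
    have h := congrArg (fun w : ↥(RingHom.ker p.toAlgHom) => (w : A'.carrier)) (b.sum_repr ⟨v, hv⟩)
    simpa only [Submodule.coe_sum, Submodule.coe_smul_of_tower] using h
  conv_lhs => rw [← h]
  rw [map_sum, Finset.sum_eq_single i]
  · exact map_smul _ _ _
  · intro j _ hj
    rw [map_smul, coordMk_basis_ne p hp b i j hj, smul_zero]
  · exact fun h => (h (Finset.mem_univ i)).elim

variable (hloc : HasLocalLifts y I₀ I) [Y.Over (Spec (CommRingCat.of k))]

/-- The coefficient module of the obstructions. -/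
abbrev obsSheaf : Y.Modules := (DCoh.sheafHom (ClSub.idealMod I₀)).obj (ClSub.quotMod I₀)

/-- The sequence of a semismall extension. -/
abbrev semiS : ShortComplex Y.Modules := ShortComplex.mk _ _ (semiInc_ext2π y I₀ p I hp b)

/-- The sequence of a coordinate. -/
abbrev coordS (i : Fin n) : ShortComplex Y.Modules :=
  ShortComplex.mk _ _ (tInc_ext2π y I₀ (coordMap p hp b i) I _ (socle_coord p hp b i) (coordMap_surjective p hp b i))

/-- The morphism of sequences to a coordinate. -/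
def toCoord (i : Fin n) : semiS y I₀ p I hp b ⟶ coordS y I₀ p I hp b i where
  τ₁ := biproduct.π (fun _ : Fin n => ClSub.quotMod I₀) i
  τ₂ := coordExtMap y I₀ p I hp b i
  τ₃ := 𝟙 _
  comm₁₂ := (semiInc_coord y I₀ p I hp b i).symm
  comm₂₃ := (extMap_ext2π y I₀ p I _ _ _).trans (Category.comp_id _).symm

include hloc in
theorem liftsLocally_coord (i : Fin n) : LiftsLocally (coordS y I₀ p I hp b i) (sqProj I₀) :=
  (liftsLocally_semi y I₀ p I hp b hloc).map (toCoord y I₀ p I hp b i) (Category.comp_id _)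

/-- The class of a coordinate. -/
def coordClass (i : Fin n) : Coh.HH Y (obsSheaf I₀) 1 :=
  torsorClass k (S := coordS y I₀ p I hp b i) (E := ClSub.idealMod I₀) (shortExact_coord y I₀ p I hp b hloc i)
    (sqProj I₀) (liftsLocally_coord y I₀ p I hp b hloc i)

theorem coordClass_eq_zero_iff (i : Fin n) : coordClass y I₀ p I hp b hloc i = 0 ↔
    ∃ I' : (localHilb Y y I₀).obj _, (localHilb Y y I₀).map (coordMap p hp b i) I' = I := by
  have ht := coordMap_ker p hp b i
  have ht0 := coordMk_basis_ne_zero p hp b i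
  have hmax := (socle_coord p hp b i).max
  rw [coordClass, torsorClass_eq_zero_iff]
  constructor
  · rintro ⟨σ, hσ⟩
    exact exists_lift_of_sigma y I₀ _ I (hinj_of_local y I₀ _ I (hloc _ (isSmallExt_coord p hp b i))
      (coordMap_surjective p hp b i) ht ht0 hmax) σ hσ (coordMap_surjective p hp b i) ht ht0 hmax
  · rintro ⟨I', hI'⟩
    exact exists_sigma_of_lift y I₀ _ I (coordMap_surjective p hp b i) ht ht0 hmax hI'

/-- The morphism of sequences to a small quotient of the kernel. -/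
theorem exists_toQuot {A'' : Art k k} (p' : A'' ⟶ A) (hp' : Function.Surjective p') (q : A' ⟶ A'')
    (hqp : q ≫ p' = p) {t : A''.carrier} (ht : Socle p' t) (a : Fin n → k)
    (ha : ∀ j, q.toAlgHom (b j : A'.carrier) = a j • t) :
    ∃ α : semiS y I₀ p I hp b ⟶ ShortComplex.mk _ _ (tInc_ext2π y I₀ p' I t ht hp'),
      α.τ₃ = 𝟙 _ ∧
        α.τ₁ = ∑ j, biproduct.π (fun _ : Fin n => ClSub.quotMod I₀) j ≫ smulMod _ (Coh.toGlobal y (a j)) := by
  have hsoc : ∀ j, Socle p' (a j • t) := fun j => ⟨by rw [map_smul, ht.map_eq, smul_zero],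
    fun x hx => by rw [mul_smul_comm, ht.max x hx, smul_zero]⟩
  refine ⟨{ τ₁ := ∑ j, biproduct.π (fun _ : Fin n => ClSub.quotMod I₀) j ≫ smulMod _ (Coh.toGlobal y (a j))
            τ₂ := extMap y I₀ p I q p' hqp
            τ₃ := 𝟙 _
            comm₁₂ := ?_
            comm₂₃ := (extMap_ext2π y I₀ p I q p' hqp).trans (Category.comp_id _).symm }, rfl, rfl⟩
  refine biproduct.hom_ext' _ _ fun j => ?_
  dsimp only
  rw [← Category.assoc, ← Category.assoc, Preadditive.comp_sum, Finset.sum_eq_single j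
    (fun i _ hi => by rw [← Category.assoc, biproduct.ι_π_ne _ (Ne.symm hi), zero_comp])
    (fun h => (h (Finset.mem_univ j)).elim), ← Category.assoc, biproduct.ι_π_self, Category.id_comp, ι_semiInc,
    tInc_extMap y I₀ p I q p' hqp _ _ _ (by rw [ha j]; exact hsoc j) hp',
    tInc_congr y I₀ I p' hp' (ha j) (by rw [ha j]; exact hsoc j) (hsoc j), tInc_smul]

theorem coordClass_eq (i : Fin n) : coordClass y I₀ p I hp b hloc i =
    Cohom.hhMap k ((DCoh.sheafHom (ClSub.idealMod I₀)).map (biproduct.π (fun _ : Fin n => ClSub.quotMod I₀) i)) 1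
      (torsorClass k (shortExact_semi y I₀ p I hp b hloc) (sqProj I₀) (liftsLocally_semi y I₀ p I hp b hloc)) :=
  (hhMap_torsorClass (shortExact_semi y I₀ p I hp b hloc) (shortExact_coord y I₀ p I hp b hloc i)
    (toCoord y I₀ p I hp b i) _ _ (Category.comp_id _) _ _).symm

theorem coordClass_quot (hy : y = Y ↘ Spec (CommRingCat.of k)) {A'' : Art k k} (p' : A'' ⟶ A)
    (hp' : Art.IsSemismallExt p') {m : ℕ} (c : Module.Basis (Fin m) k ↥(RingHom.ker p'.toAlgHom))
    (q : A' ⟶ A'') (hqp : q ≫ p' = p) (M : Fin n → Fin m → k)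
    (hM : ∀ j, ∃ h : q.toAlgHom (b j : A'.carrier) ∈ RingHom.ker p'.toAlgHom,
      ∀ l, c.repr ⟨_, h⟩ l = M j l) (l : Fin m) :
    coordClass y I₀ p' I hp' c hloc l = ∑ j, M j l • coordClass y I₀ p I hp b hloc j := by
  have himg : ∀ j, (q ≫ coordMk p' hp' c l).toAlgHom (b j : A'.carrier) =
      M j l • (coordMk p' hp' c l).toAlgHom (c l : A''.carrier) := fun j => by
    obtain ⟨h, e⟩ := hM j
    refine (coordMk_ker p' hp' c h l).trans ?_
    rw [e]
  obtain ⟨α, hα₃, hα₁⟩ := exists_toQuot y I₀ p I hp b (coordMap p' hp' c l) (coordMap_surjective p' hp' c l)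
    (q ≫ coordMk p' hp' c l) (by rw [Category.assoc, Art.quotMk_quotFactor, hqp]) (socle_coord p' hp' c l)
    (fun j => M j l) himg
  have e := hhMap_torsorClass (k := k) (shortExact_semi y I₀ p I hp b hloc) (shortExact_coord y I₀ p' I hp' c hloc l)
    α (sqProj I₀) (sqProj I₀) (by rw [hα₃]; exact Category.comp_id _) (liftsLocally_semi y I₀ p I hp b hloc)
    (liftsLocally_coord y I₀ p' I hp' c hloc l)
  subst hy
  rw [hα₁] at e
  exact e.symm.trans ((hhMap_sum_smul _ _ _ _).trans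
    (Finset.sum_congr rfl fun j _ => congrArg _ (coordClass_eq _ I₀ p I hp b hloc j).symm))

theorem sum_tmul_basis_eq_zero_iff {V : Type u} [AddCommGroup V] [Module k V] {J : Type u} [AddCommGroup J]
    [Module k J] (c : Module.Basis (Fin n) k J) (v : Fin n → V) : ∑ i, v i ⊗ₜ[k] c i = 0 ↔ ∀ i, v i = 0 := by
  refine ⟨fun h i => ?_, fun h => Finset.sum_eq_zero fun i _ => by rw [h, zero_tmul]⟩
  have := congrArg (fun z => (TensorProduct.rid k V) (LinearMap.lTensor V (c.coord i) z)) h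
  simpa [map_sum, Module.Basis.coord_apply, Finsupp.single_apply] using this

section Assemble

variable (hy : y = Y ↘ Spec (CommRingCat.of k)) (hL : ∀ {C : Art k k} (J : (localHilb Y y I₀).obj C), HasLocalLifts y I₀ J)

/-- A basis of the kernel. -/
def kerBasis {C' C : Art k k} (π : C' ⟶ C) (hπ : Art.IsSemismallExt π) :
    Module.Basis (Fin (Module.finrank k ↥(RingHom.ker π.toAlgHom))) k ↥(RingHom.ker π.toAlgHom) :=
  haveI := GrothLib.ArtFun.finite_ker hπ
  Module.finBasis k _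

include hy hL in
/-- The obstruction theory. -/
theorem hasObsTheory_Y : HasObsTheory (localHilb Y y I₀) (Coh.HH Y (obsSheaf I₀) 1) := by
  refine ⟨{ obs := fun {C' C} π hπ J => ∑ j, coordClass y I₀ π J hπ (kerBasis π hπ) (hL J) j ⊗ₜ[k] kerBasis π hπ j
            obs_eq_zero_iff := fun {C' C} π hπ J => ?_
            obs_quot := fun {C' C} π hπ K hK hKJ hq J => ?_ }⟩
  · rw [sum_tmul_basis_eq_zero_iff, exists_lift_iff_coord y I₀ π J hπ (kerBasis π hπ)]
    exact forall_congr' fun i => coordClass_eq_zero_iff y I₀ π J hπ (kerBasis π hπ) (hL J) i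
  · let b := kerBasis π hπ
    let c := kerBasis (Art.quotFactor hK π hKJ) hq
    let κ := (Art.kerToQuot hK π hKJ).restrictScalars k
    have e : ∀ l, coordClass y I₀ (Art.quotFactor hK π hKJ) J hq c (hL J) l =
        ∑ j, c.repr (κ (b j)) l • coordClass y I₀ π J hπ b (hL J) j :=
      coordClass_quot y I₀ π J hπ b (hL J) hy _ hq c (Art.quotMk C' K hK) (Art.quotMk_quotFactor _ _ _)
        (fun j l => c.repr (κ (b j)) l) fun j => ⟨(κ (b j)).2, fun l => rfl⟩
    rw [map_sum]
    simp only [LinearMap.lTensor_tmul]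
    show ∑ l, coordClass y I₀ (Art.quotFactor hK π hKJ) J hq c (hL J) l ⊗ₜ[k] c l =
      ∑ j, coordClass y I₀ π J hπ b (hL J) j ⊗ₜ[k] κ (b j)
    simp only [e, TensorProduct.sum_tmul, TensorProduct.smul_tmul]
    rw [Finset.sum_comm]
    refine Finset.sum_congr rfl fun j _ => ?_
    rw [← TensorProduct.tmul_sum, c.sum_repr]

end Assemble

end GrothLib.HilbObs26
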