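import Groth.Agent.Lib.Snapper.PushEuler
import Mathlib.Topology.Sheaves.SheafCondition.Sites

/-!
# Cohomology of a direct image along a closed immersion, linearly
-/

set_option linter.style.haveILetI false
universe u

open CategoryTheory CategoryTheory.Limits Opposite TopologicalSpace AlgebraicGeometry Abelian

namespace GrothLib.HilbObs26

open GrothLib.Cohom

section Top

variable {X Y : TopCat.{u}} (f : X ⟶ Y)

theorem pushFun_map_shortExact_closed (hf : Topology.IsClosedEmbedding f)
    {S : ShortComplex (AbSheaf X)} (hS : S.ShortExact) : (S.map (pushFun f)).ShortExact := by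
  have := hS.mono_f
  have : PreservesFiniteLimits (pushFun f) := by
    have : PreservesLimitsOfSize.{0, 0} (pushFun f) :=
      (TopCat.Sheaf.pullbackPushforwardAdjunction AddCommGrpCat.{u} f).rightAdjoint_preservesLimits
    exact PreservesLimitsOfSize.preservesFiniteLimits.{0, 0} _
  refine { exact := ?_, mono_f := ?_, epi_g := ?_ }
  · exact ShortComplex.exact_of_f_is_kernel _
      (isLimitForkMapOfIsLimit' (pushFun f) S.zero hS.fIsKernel)
  · exact inferInstanceAs (Mono ((pushFun f).map S.f))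
  · refine (TopCat.Sheaf.isLocallySurjective_iff_epi (X := Y) _).1 ?_
    refine (TopCat.Presheaf.isLocallySurjective_iff _).2 fun U t p hp ↦ ?_
    by_cases hpr : p ∈ Set.range f
    · obtain ⟨x, rfl⟩ := hpr
      have hl := (TopCat.Presheaf.isLocallySurjective_iff _).1
        ((TopCat.Sheaf.isLocallySurjective_iff_epi (X := X) S.g).2 hS.epi_g)
      obtain ⟨W, i, ⟨s, hs⟩, hxW⟩ := hl ((Opens.map f).obj U) t x hp
      obtain ⟨W', hW'o, hW'⟩ := hf.isInducing.isOpen_iff.1 W.isOpen
      have hle : (Opens.map f).obj (U ⊓ ⟨W', hW'o⟩) ≤ W := fun z hz => (Set.ext_iff.1 hW' z).1 hz.2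
      refine ⟨U ⊓ ⟨W', hW'o⟩, inf_le_left, ⟨S.X₂.obj.map (homOfLE hle).op s, ?_⟩, hp, (Set.ext_iff.1 hW' x).2 hxW⟩
      refine (ConcreteCategory.congr_hom (S.g.hom.naturality (homOfLE hle).op) s).trans ?_
      refine (congrArg (S.X₃.obj.map (homOfLE hle).op) hs).trans ?_
      exact (ConcreteCategory.congr_hom (S.X₃.obj.map_comp _ _) t).symm
    · let W : Opens Y := ⟨(Set.range f)ᶜ, hf.isClosed_range.isOpen_compl⟩
      have hbot : (Opens.map f).obj (U ⊓ W) = ⊥ :=
        Opens.ext (Set.eq_empty_iff_forall_notMem.2 fun z hz => hz.2 ⟨z, rfl⟩)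
      refine ⟨U ⊓ W, inf_le_left, ⟨0, ?_⟩, hp, hpr⟩
      have h0 : Subsingleton (S.X₃.obj.obj (op ((Opens.map f).obj (U ⊓ W)))) := by
        rw [hbot]
        exact subsingleton_sections_bot S.X₃
      exact @Subsingleton.elim _ h0 _ _

theorem nonempty_comparison_closed (hf : Topology.IsClosedEmbedding f) (V : Opens Y) (n : ℕ) :
    Nonempty (DimShift.Comparison.{u} (pushFun f) (freeFun.obj ((Opens.map f).obj V))
      (freeFun.obj V) (fun _ => True) n) := by
  refine DimShift.nonempty_comparison (pushFun f) _ _ _ (fun _ _ => trivial)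
    (fun S hS _ _ ↦ ⟨trivial, pushFun_map_shortExact_closed f hf hS⟩)
    (fun I hI n ↦ subsingleton_ext_pushFun_of_injective f I hI V n)
    (fun F ↦ (sectionsAddEquiv _ F).trans (sectionsAddEquiv V ((pushFun f).obj F)).symm)
    (fun {F F'} φ a ↦ ?_) n
  apply (sectionsAddEquiv V ((pushFun f).obj F')).injective
  refine ((sectionsAddEquiv V ((pushFun f).obj F')).apply_symm_apply _).trans ?_
  refine (sectionsEquiv_comp a φ).trans (Eq.trans ?_ (sectionsEquiv_comp _ ((pushFun f).map φ)).symm)
  exact congrArg _ ((sectionsEquiv V ((pushFun f).obj F)).apply_symm_apply _).symm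

end Top

open GrothLib.Snapper in
/-- `H^n(X, M) = H^n(S, f_* M)` linearly over the base, for a closed immersion and any module. -/
theorem nonempty_HH_linearEquiv_closed {A : Type u} [CommRing A] {X S : Scheme.{u}}
    [X.Over (Spec (CommRingCat.of A))] [S.Over (Spec (CommRingCat.of A))] (f : X ⟶ S) [IsClosedImmersion f]
    (hf : f ≫ S ↘ Spec (CommRingCat.of A) = X ↘ Spec (CommRingCat.of A))
    (M : X.Modules) (n : ℕ) :
    Nonempty (Coh.HH X M n ≃ₗ[A] Coh.HH S ((Scheme.Modules.pushforward f).obj M) n) := by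
  obtain ⟨c⟩ := nonempty_comparison_closed f.base f.isClosedEmbedding ⊤ n
  let N := (Scheme.Modules.pushforward f).obj M
  let e : Coh.HH X M n ≃+ Coh.HH S N n :=
    (HEquivTop _ n).trans ((c.equiv (Coh.toAb M) trivial).trans (HEquivTop _ n).symm)
  refine ⟨{ e with map_smul' := fun a x => ?_ }⟩
  show e (a • x) = a • e x
  have he : ∀ y, HEquivTop (Coh.toAb N) n (e y) = c.equiv (Coh.toAb M) trivial (HEquivTop (Coh.toAb M) n y) :=
    fun y => (HEquivTop _ n).apply_symm_apply _
  apply (HEquivTop (Coh.toAb N) n).injective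
  refine (he _).trans ?_
  show c.equiv (Coh.toAb M) trivial (HEquivTop _ n
      (Sheaf.H.map (Coh.smulAb M (Coh.toGlobal (X ↘ Spec (CommRingCat.of A)) a)) n x)) =
    HEquivTop _ n (Sheaf.H.map (Coh.smulAb N (Coh.toGlobal (S ↘ Spec (CommRingCat.of A)) a)) n (e x))
  refine ((congrArg (c.equiv _ trivial) (HEquivTop_map _ n x)).trans (c.naturality _ trivial trivial _)).trans ?_
  refine Eq.trans ?_ (HEquivTop_map _ n (e x)).symm
  rw [he x, smulAb_pushforward f M, ← toGlobal_comp, hf]
  rfl

end GrothLib.HilbObs26
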