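import Groth.Agent.Lib.Torsor26.Basic
import Groth.Agent.Lib.Cohom.LinearLES
import Groth.Agent.Lib.LocalHilb26.Scalar

/-!
# The class of the local lifts of a morphism, in `H¹` of the sheaf of homomorphisms
-/

set_option autoImplicit false
set_option linter.style.haveILetI false
set_option backward.isDefEq.respectTransparency false
universe u

noncomputable section

open CategoryTheory CategoryTheory.Limits AlgebraicGeometry MonoidalCategory

namespace GrothLib.HilbObs26

open OX LocFreeHom
open GrothLib.LocalHilb26 (secEquiv)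

variable {k : Type u} [CommRing k] {X : Scheme.{u}} [X.Over (Spec (CommRingCat.of k))]

/-- A global map from the structure sheaf as a class in `H⁰`. -/
def elemOf {M : X.Modules} (φ : Coh.structureModule X ⟶ M) : Coh.HH X M 0 :=
  (Sheaf.H.equiv₀ (Coh.toAb M) (T := (⊤ : X.Opens)) isTerminalTop).symm (secEquiv M φ)

theorem hhMap_elemOf {M N : X.Modules} (φ : Coh.structureModule X ⟶ M) (g : M ⟶ N) :
    Cohom.hhMap k g 0 (elemOf φ) = elemOf (φ ≫ g) := by
  refine (Sheaf.H.equiv₀ (Coh.toAb N) (T := (⊤ : X.Opens)) isTerminalTop).injective ?_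
  rw [elemOf, elemOf, Cohom.hhMap_apply]
  refine (Sheaf.H.equiv₀_naturality isTerminalTop ((QCoh.toAbFun X).map g) _).symm.trans ?_
  refine (congrArg _ (AddEquiv.apply_symm_apply _ _)).trans ?_
  rw [AddEquiv.apply_symm_apply]
  rfl

theorem elemOf_surjective (M : X.Modules) : Function.Surjective (elemOf (X := X) (M := M)) := fun x =>
  ⟨(secEquiv M).symm (Sheaf.H.equiv₀ (Coh.toAb M) (T := (⊤ : X.Opens)) isTerminalTop x), by
    rw [elemOf, AddEquiv.apply_symm_apply, AddEquiv.symm_apply_apply]⟩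

theorem elemOf_injective (M : X.Modules) : Function.Injective (elemOf (X := X) (M := M)) :=
  fun _ _ e => (secEquiv M).injective ((Sheaf.H.equiv₀ (Coh.toAb M) _).symm.injective e)

theorem hhDelta_naturality {S S' : ShortComplex X.Modules} (hS : S.ShortExact) (hS' : S'.ShortExact)
    (α : S ⟶ S') (n : ℕ) (x : Coh.HH X S.X₃ n) :
    Cohom.hhMap k α.τ₁ (n + 1) (Cohom.hhDelta k hS n x) =
      Cohom.hhDelta k hS' n (Cohom.hhMap k α.τ₃ n x) := by
  have key := (QCoh.toAbFun_map_shortExact S hS).extClass_naturality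
    (QCoh.toAbFun_map_shortExact S' hS') ((QCoh.toAbFun X).mapShortComplex.map α)
  change ((show Abelian.Ext.{u} _ (S.map (QCoh.toAbFun X)).X₃ n from x).comp _ rfl).comp
        (Abelian.Ext.mk₀ ((QCoh.toAbFun X).mapShortComplex.map α).τ₁) (add_zero _) =
    (Abelian.Ext.comp (C := Cohom.AbSheaf X) (show Abelian.Ext.{u} _ (S.map (QCoh.toAbFun X)).X₃ n from x)
      (Abelian.Ext.mk₀ ((QCoh.toAbFun X).mapShortComplex.map α).τ₃) (add_zero n)).comp
        (QCoh.toAbFun_map_shortExact S' hS').extClass rfl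
  rw [Abelian.Ext.comp_assoc_of_second_deg_zero, ← key, Abelian.Ext.comp_assoc_of_third_deg_zero]

attribute [local instance] LocFreeHom.hasSheafHom

/-- A morphism lifts locally. -/
def LiftsLocally (S : ShortComplex X.Modules) {E : X.Modules} (f₀ : E ⟶ S.X₃) : Prop :=
  ∀ x : X, ∃ W : X.Opens, x ∈ W ∧
    ∃ lam : (Scheme.Modules.restrictFunctor W.ι).obj E ⟶ (Scheme.Modules.restrictFunctor W.ι).obj S.X₂,
      lam ≫ (Scheme.Modules.restrictFunctor W.ι).map S.g = (Scheme.Modules.restrictFunctor W.ι).map f₀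

variable (E : X.Modules)

/-- The image of the maps to the middle term. -/
def homImage (S : ShortComplex X.Modules) : X.Modules := kernel (cokernel.π ((DCoh.sheafHom E).map S.g))

/-- The factorisation through the image. -/
def homImageπ (S : ShortComplex X.Modules) : (DCoh.sheafHom E).obj S.X₂ ⟶ homImage E S :=
  kernel.lift _ ((DCoh.sheafHom E).map S.g) (cokernel.condition _)

/-- The sequence of sheaves of homomorphisms. -/
def homSeq (S : ShortComplex X.Modules) : ShortComplex X.Modules :=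
  ShortComplex.mk ((DCoh.sheafHom E).map S.f) (homImageπ E S)
    (haveI := (DCoh.sheafHomAdj E).rightAdjoint_preservesLimits
     by
      haveI : PreservesLimitsOfSize.{0, 0} (DCoh.sheafHom E) := this
      haveI : (DCoh.sheafHom E).Additive := Functor.additive_of_preserves_binary_products _
      refine (cancel_mono (kernel.ι _)).1 ?_
      rw [Category.assoc, homImageπ, kernel.lift_ι, zero_comp, ← Functor.map_comp, S.zero, Functor.map_zero])

variable {E}

theorem homSeq_shortExact {S : ShortComplex X.Modules} (hS : S.ShortExact) : (homSeq E S).ShortExact := by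
  let R := DCoh.sheafHom E
  let adj := DCoh.sheafHomAdj E
  haveI := hS.mono_f
  haveI : PreservesLimitsOfSize.{0, 0} R := adj.rightAdjoint_preservesLimits
  haveI : R.Additive := Functor.additive_of_preserves_binary_products _
  haveI : Mono (R.map S.f) := R.map_mono S.f
  have hRex : (S.map R).Exact :=
    ShortComplex.exact_of_f_is_kernel _ (isLimitForkMapOfIsLimit' R S.zero hS.fIsKernel)
  let ψ : homSeq E S ⟶ S.map R :=
    { τ₁ := 𝟙 _, τ₂ := 𝟙 _, τ₃ := kernel.ι (cokernel.π (R.map S.g))
      comm₁₂ := (Category.id_comp _).trans (Category.comp_id _).symm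
      comm₂₃ := by
        refine (Category.id_comp _).trans ?_
        exact (kernel.lift_ι _ _ _).symm }
  haveI : Epi ψ.τ₁ := inferInstanceAs (Epi (𝟙 _))
  haveI : IsIso ψ.τ₂ := inferInstanceAs (IsIso (𝟙 _))
  haveI : Mono ψ.τ₃ := inferInstanceAs (Mono (kernel.ι (cokernel.π (R.map S.g))))
  haveI : Epi (homImageπ E S) := inferInstanceAs (Epi (Abelian.factorThruImage (R.map S.g)))
  exact { exact := (ShortComplex.exact_iff_of_epi_of_isIso_of_mono ψ).2 hRex
          mono_f := inferInstanceAs (Mono (R.map S.f)), epi_g := inferInstanceAs (Epi (homImageπ E S)) }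

/-- The transpose of a morphism. -/
def transpose {M : X.Modules} (f : E ⟶ M) : Coh.structureModule X ⟶ (DCoh.sheafHom E).obj M :=
  (DCoh.sheafHomAdj E).homEquiv _ _ ((Torsor26.unitR E).hom ≫ f)

theorem transpose_comp {M N : X.Modules} (f : E ⟶ M) (g : M ⟶ N) :
    transpose (f ≫ g) = transpose f ≫ (DCoh.sheafHom E).map g := by
  rw [transpose, transpose, ← Adjunction.homEquiv_naturality_right, Category.assoc]

theorem transpose_π {S : ShortComplex X.Modules} {f₀ : E ⟶ S.X₃} (hl : LiftsLocally S f₀) :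
    transpose f₀ ≫ cokernel.π ((DCoh.sheafHom E).map S.g) = 0 := by
  let R := DCoh.sheafHom E
  let adj := DCoh.sheafHomAdj E
  refine (OX.eq_zero_iff _).2 fun x => ?_
  obtain ⟨W, hxW, lam, hlam⟩ := hl x
  obtain ⟨l, hl'⟩ := Torsor26.exists_lift_on W.ι S.g f₀ lam hlam
  have h0 : (CxOX.extZeroAdj W.ι).counit.app (Coh.structureModule X) ≫
      transpose f₀ ≫ cokernel.π (R.map S.g) = 0 := by
    refine (Category.assoc _ _ _).symm.trans ?_
    refine (congrArg (· ≫ cokernel.π (R.map S.g)) ((adj.homEquiv_naturality_left _ _).symm.trans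
      ((congrArg (adj.homEquiv _ _) hl'.symm).trans (adj.homEquiv_naturality_right l S.g)))).trans ?_
    exact (Category.assoc _ _ _).trans ((congrArg (_ ≫ ·) (cokernel.condition _)).trans comp_zero)
  obtain ⟨w, rfl⟩ : x ∈ Set.range W.ι := by simpa using hxW
  haveI : IsIso ((stalk (W.ι w)).map ((CxOX.extZeroAdj W.ι).counit.app (Coh.structureModule X))) :=
    isIso_stalk_epsZ W.ι _ w
  have h1 := congrArg (stalk (W.ι w)).map h0
  rw [Functor.map_comp, Functor.map_zero] at h1
  exact (cancel_epi ((stalk (W.ι w)).map ((CxOX.extZeroAdj W.ι).counit.app (Coh.structureModule X)))).1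
    (h1.trans comp_zero.symm)

variable (k) in
/-- The obstruction to lifting globally. -/
def torsorClass {S : ShortComplex X.Modules} (hS : S.ShortExact) (f₀ : E ⟶ S.X₃) (hl : LiftsLocally S f₀) :
    Coh.HH X ((DCoh.sheafHom E).obj S.X₁) 1 :=
  Cohom.hhDelta k (homSeq_shortExact hS) 0 (elemOf (kernel.lift _ (transpose f₀) (transpose_π hl)))

theorem torsorClass_eq_zero_iff {S : ShortComplex X.Modules} (hS : S.ShortExact) (f₀ : E ⟶ S.X₃)
    (hl : LiftsLocally S f₀) : torsorClass k hS f₀ hl = 0 ↔ ∃ s : E ⟶ S.X₂, s ≫ S.g = f₀ := by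
  rw [torsorClass]
  refine ((Cohom.exact₃ (A := k) (homSeq_shortExact hS) 0) _).trans ⟨?_, ?_⟩
  · rintro ⟨x, hx⟩
    obtain ⟨φ, rfl⟩ := elemOf_surjective (X := X) _ x
    rw [hhMap_elemOf] at hx
    have hφ := elemOf_injective (X := X) _ hx
    have h : φ ≫ (DCoh.sheafHom E).map S.g = transpose f₀ := by
      have := congrArg (· ≫ kernel.ι (cokernel.π ((DCoh.sheafHom E).map S.g))) hφ
      simp only [kernel.lift_ι, Category.assoc] at this
      rw [← this]
      congr 1
      exact (kernel.lift_ι _ _ _).symm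
    refine ⟨(Torsor26.unitR E).inv ≫ ((DCoh.sheafHomAdj E).homEquiv _ _).symm φ, ?_⟩
    rw [Category.assoc, ← (DCoh.sheafHomAdj E).homEquiv_naturality_right_symm, h, transpose,
      Equiv.symm_apply_apply, Iso.inv_hom_id_assoc]
  · rintro ⟨s, rfl⟩
    refine ⟨elemOf (transpose s), (hhMap_elemOf _ _).trans (congrArg elemOf ?_)⟩
    refine (cancel_mono (kernel.ι _)).1 ?_
    rw [kernel.lift_ι, transpose_comp, Category.assoc]
    congr 1
    exact kernel.lift_ι _ _ _

/-- Naturality of the class. -/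
theorem hhMap_torsorClass {S S' : ShortComplex X.Modules} (hS : S.ShortExact) (hS' : S'.ShortExact)
    (α : S ⟶ S') (f₀ : E ⟶ S.X₃) (f₀' : E ⟶ S'.X₃) (hf : f₀ ≫ α.τ₃ = f₀') (hl : LiftsLocally S f₀)
    (hl' : LiftsLocally S' f₀') :
    Cohom.hhMap k ((DCoh.sheafHom E).map α.τ₁) 1 (torsorClass k hS f₀ hl) = torsorClass k hS' f₀' hl' := by
  let R := DCoh.sheafHom E
  have hc : R.map S.g ≫ R.map α.τ₃ = R.map α.τ₂ ≫ R.map S'.g := by rw [← R.map_comp, ← R.map_comp, α.comm₂₃]
  have hker : cokernel.π (R.map S.g) ≫ cokernel.map (R.map S.g) (R.map S'.g) (R.map α.τ₂) (R.map α.τ₃) hc =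
      R.map α.τ₃ ≫ cokernel.π (R.map S'.g) := cokernel.π_desc _ _ _
  let β : homSeq E S ⟶ homSeq E S' :=
    { τ₁ := R.map α.τ₁
      τ₂ := R.map α.τ₂
      τ₃ := kernel.map _ _ (R.map α.τ₃) _ hker
      comm₁₂ := by
        show R.map α.τ₁ ≫ R.map S'.f = R.map S.f ≫ R.map α.τ₂
        rw [← R.map_comp, ← R.map_comp, α.comm₁₂]
      comm₂₃ := by
        show R.map α.τ₂ ≫ homImageπ E S' = homImageπ E S ≫ kernel.map _ _ (R.map α.τ₃) _ hker
        refine (cancel_mono (kernel.ι _)).1 ?_
        simp only [Category.assoc, kernel.lift_ι, homImageπ]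
        refine hc.symm.trans ?_
        refine (?_ : R.map S.g ≫ R.map α.τ₃ = _)
        show _ = _ ≫ kernel.lift _ _ _ ≫ kernel.ι _
        rw [kernel.lift_ι]
        exact (kernel.lift_ι_assoc _ _ _ _).symm }
  rw [torsorClass, torsorClass]
  refine (hhDelta_naturality (homSeq_shortExact hS) (homSeq_shortExact hS') β 0 _).trans ?_
  refine congrArg _ ((hhMap_elemOf _ _).trans (congrArg elemOf ?_))
  refine (cancel_mono (kernel.ι _)).1 ?_
  rw [kernel.lift_ι, Category.assoc]
  show kernel.lift _ _ _ ≫ kernel.map _ _ (R.map α.τ₃) _ hker ≫ kernel.ι _ = _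
  rw [kernel.lift_ι, kernel.lift_ι_assoc, ← transpose_comp, hf]

end GrothLib.HilbObs26
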