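import Groth.Agent.Lib.HilbObs26.SemiSeq
import Groth.Agent.Lib.HilbObs26.TorsorClass
import Groth.Agent.Lib.LocalHilb26.NormalH1

/-!
# Local lifts of the projection into the conormal extension of a semismall extension
-/

set_option autoImplicit false
set_option maxHeartbeats 800000
set_option backward.isDefEq.respectTransparency false
universe u

noncomputable section

open CategoryTheory CategoryTheory.Limits AlgebraicGeometry

namespace GrothLib.HilbObs26

open _root_.ArtFun _root_.ArtFun.Art GrothLib.IdealModSec GrothLib.LocalHilb26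

section General

variable {X : Scheme.{u}}

/-- The short exact sequences are left exact on sections. -/
theorem exists_app_f {S : ShortComplex X.Modules} (hS : S.ShortExact) (W : X.Opens) (m : Γ(S.X₂, W))
    (hm : S.g.app W m = 0) : ∃ r, S.f.app W r = m := by
  obtain ⟨e, rfl⟩ := (app_kernel S.g W).2 m hm
  haveI := hS.mono_f
  refine ⟨(hS.fIsKernel.lift (KernelFork.ofι (kernel.ι S.g) (kernel.condition _))).app W e, ?_⟩
  exact (app_comp_apply _ _ _ _).symm.trans
    (congrArg (fun φ : kernel S.g ⟶ S.X₂ => φ.app W e) (Fork.IsLimit.lift_ι hS.fIsKernel))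

/-- Evaluation at a section is additive in the morphism. -/
def evalHom {M N : X.Modules} (W : X.Opens) (m : Γ(M, W)) : (M ⟶ N) →+ Γ(N, W) :=
  AddMonoidHom.mk' (fun φ => φ.app W m) fun _ _ => rfl

theorem eq_sum_ι_π {n : ℕ} {M : X.Modules} (W : X.Opens) (w : Γ(⨁ fun _ : Fin n => M, W)) :
    ∑ j, (biproduct.ι (fun _ : Fin n => M) j).app W ((biproduct.π (fun _ : Fin n => M) j).app W w) = w := by
  refine Eq.trans ?_ ((map_sum (evalHom (N := ⨁ fun _ : Fin n => M) W w)
    (fun j => biproduct.π (fun _ : Fin n => M) j ≫ biproduct.ι (fun _ : Fin n => M) j) Finset.univ).symm.trans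
    (congrArg (fun φ => evalHom W w φ) biproduct.total))
  exact Finset.sum_congr rfl fun j _ => (app_comp_apply _ _ _ _).symm

/-- A family of local maps into the coordinates determines a local map. -/
theorem exists_glue {ι : Type*} (M E Q : X.Modules) (π : E ⟶ Q) (Ei : ι → X.Modules) (c : ∀ i, E ⟶ Ei i)
    (πi : ∀ i, Ei i ⟶ Q) (f : M ⟶ Q)
    (hex : ∀ (U : X.affineOpens) (m : Γ(M, U.1)) (a : ∀ i, Γ(Ei i, U.1)),
      (∀ i, (πi i).app U.1 (a i) = f.app U.1 m) → ∃ e, π.app U.1 e = f.app U.1 m ∧ ∀ i, (c i).app U.1 e = a i)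
    (hext : ∀ (W : X.Opens) (e e' : Γ(E, W)), π.app W e = π.app W e' →
      (∀ i, (c i).app W e = (c i).app W e') → e = e')
    (W : X.Opens)
    (lam : ∀ i, (Scheme.Modules.restrictFunctor W.ι).obj M ⟶ (Scheme.Modules.restrictFunctor W.ι).obj (Ei i))
    (hlam : ∀ i, lam i ≫ (Scheme.Modules.restrictFunctor W.ι).map (πi i) =
      (Scheme.Modules.restrictFunctor W.ι).map f) :
    ∃ l : (Scheme.Modules.restrictFunctor W.ι).obj M ⟶ (Scheme.Modules.restrictFunctor W.ι).obj E,
      l ≫ (Scheme.Modules.restrictFunctor W.ι).map π = (Scheme.Modules.restrictFunctor W.ι).map f := by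
  let im : (W : Scheme.{u}).affineOpens → X.affineOpens := fun V =>
    ⟨W.ι ''ᵁ V.1, V.2.image_of_isOpenImmersion W.ι⟩
  let lam' : ∀ (i) (V : (W : Scheme.{u}).affineOpens), Γ(M, (im V).1) → Γ(Ei i, (im V).1) :=
    fun i V m => (lam i).app V.1 m
  let S : (W : Scheme.{u}).affineOpens → Type u := fun V =>
    {me : Γ(M, (im V).1) × Γ(E, (im V).1) //
      π.app (im V).1 me.2 = f.app (im V).1 me.1 ∧ ∀ i, (c i).app (im V).1 me.2 = lam' i V me.1}
  have hex' : ∀ (V : (W : Scheme.{u}).affineOpens) (m : Γ(M, (im V).1)), ∃ a : S V, a.1.1 = m := fun V m => by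
    obtain ⟨e, he, he'⟩ := hex (im V) m (fun i => lam' i V m) fun i =>
      congrArg (fun φ : (Scheme.Modules.restrictFunctor W.ι).obj M ⟶
        (Scheme.Modules.restrictFunctor W.ι).obj Q => φ.app V.1 m) (hlam i)
    exact ⟨⟨(m, e), he, he'⟩, rfl⟩
  refine (exists_hom_of_surj
    (M := (Scheme.Modules.restrictFunctor W.ι).obj M) (N := (Scheme.Modules.restrictFunctor W.ι).obj E)
    S (fun V a => a.1.1) (fun V a => a.1.2) (fun V m => hex' V m) ?_ ?_ ?_ ?_).elim
    fun l hl => ⟨l, AffHom.hom_ext fun V m => ?_⟩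
  · intro V a a' h
    exact hext _ _ _ (a.2.1.trans ((congrArg (f.app (im V).1) h).trans a'.2.1.symm))
      fun i => (a.2.2 i).trans ((congrArg (lam' i V) h).trans (a'.2.2 i).symm)
  · intro V a a'
    exact ⟨⟨(a.1.1 + a'.1.1, a.1.2 + a'.1.2), by rw [map_add, map_add, a.2.1, a'.2.1],
      fun i => by rw [map_add, a.2.2, a'.2.2]; exact (map_add ((lam i).app V.1).hom a.1.1 a'.1.1).symm⟩, rfl, rfl⟩
  · intro V r a
    let r' : Γ(X, (im V).1) := (W.ι.appIso V.1).inv r
    exact ⟨⟨(r' • a.1.1, r' • a.1.2), by rw [Scheme.Modules.Hom.app_smul, Scheme.Modules.Hom.app_smul, a.2.1],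
      fun i => by
        rw [Scheme.Modules.Hom.app_smul, a.2.2]
        exact (Scheme.Modules.Hom.app_smul (lam i) r a.1.1).symm⟩, rfl, rfl⟩
  · intro V V' h a
    have hle : (im V').1 ≤ (im V).1 := Scheme.Hom.image_mono _ h
    exact ⟨⟨(M.presheaf.map (homOfLE hle).op a.1.1, E.presheaf.map (homOfLE hle).op a.1.2),
      by rw [app_map, app_map, a.2.1],
      fun i => by
        rw [app_map, a.2.2]
        exact (app_map (lam i) h a.1.1).symm⟩, rfl, rfl⟩
  · obtain ⟨a, rfl⟩ := hex' V m
    show π.app (im V).1 (l.app V.1 a.1.1) = _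
    rw [hl]
    exact a.2.1

end General

variable {k : Type u} [Field k] {Y : Scheme.{u}} (y : Y ⟶ specPt k) (I₀ : Y.IdealSheafData) {A' A : Art k k}
  (p : A' ⟶ A) (I : (localHilb Y y I₀).obj A) (hp : Art.IsSemismallExt p)
  {n : ℕ} (b : Module.Basis (Fin n) k ↥(RingHom.ker p.toAlgHom))

/-- The projection of the conormal extension of a coordinate. -/
abbrev coordπ (i : Fin n) := ext2π y I₀ (coordMap p hp b i) I

variable (hloc : HasLocalLifts y I₀ I)

include hloc in
theorem shortExact_coord (i : Fin n) :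
    (ShortComplex.mk _ _ (tInc_ext2π y I₀ (coordMap p hp b i) I _ (socle_coord p hp b i)
      (coordMap_surjective p hp b i))).ShortExact := by
  have hinj := hinj_of_local y I₀ (coordMap p hp b i) I (hloc _ (isSmallExt_coord p hp b i))
    (coordMap_surjective p hp b i) (coordMap_ker p hp b i) (coordMk_basis_ne_zero p hp b i)
    (socle_coord p hp b i).max
  have hS := shortExact_ext2 y I₀ (coordMap p hp b i) I (coordMap_surjective p hp b i) (coordMap_ker p hp b i)
    (coordMk_basis_ne_zero p hp b i) (socle_coord p hp b i).max hinj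
  exact ShortComplex.shortExact_of_iso (ShortComplex.isoMk (Iso.refl _) (Iso.refl _) (Iso.refl _)
    (by simp [tInc_eq_extInc y I₀ _ I _ _ _ (coordMap_ker p hp b i) (coordMk_basis_ne_zero p hp b i)])
    (by simp)) hS

include hp in
theorem exists_ext2π_eq (U : Y.affineOpens) (m : Γ(ClSub.idealMod I₀, U.1)) :
    ∃ e, (ext2π y I₀ p I).app U.1 e = (sqProj I₀).app U.1 m := by
  obtain ⟨z, hz, hz'⟩ := exists_mem_Ps y I₀ p I hp.1 (val_mem I₀ U m)
  obtain ⟨e, he⟩ := exists_extι_eq y I₀ p I _ (K2_le y I₀ p I) hz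
  exact ⟨e, sqMod_injective I₀ U.1 (by rw [ext2π_rep y I₀ p I he, hz', sqProj_spec])⟩

include hloc in
/-- A section of the extension is determined by its coordinates and its projection. -/
theorem coord_ext {W : Y.Opens} {e e' : Γ(ext2 y I₀ p I, W)}
    (hπ : (ext2π y I₀ p I).app W e = (ext2π y I₀ p I).app W e')
    (hc : ∀ i, (coordExtMap y I₀ p I hp b i).app W e = (coordExtMap y I₀ p I hp b i).app W e') : e = e' := by
  rw [← sub_eq_zero]
  obtain ⟨w, hw⟩ := exists_app_f (shortExact_semi y I₀ p I hp b hloc) W (e - e')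
    ((map_sub ((ext2π y I₀ p I).app W).hom e e').trans (sub_eq_zero.2 hπ))
  have h0 : ∀ i, (biproduct.π (fun _ : Fin n => ClSub.quotMod I₀) i).app W w = 0 := fun i => by
    haveI := (shortExact_coord y I₀ p I hp b hloc i).mono_f
    refine app_injective_of_mono (tInc y I₀ (coordMap p hp b i) I _ (socle_coord p hp b i)
      (coordMap_surjective p hp b i)) W ?_
    rw [map_zero, ← app_comp_apply, ← semiInc_coord, app_comp_apply, show (semiInc y I₀ p I hp b).app W w = e - e' from hw,
      map_sub, sub_eq_zero]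
    exact hc i
  refine hw.symm.trans ?_
  rw [show w = 0 from (eq_sum_ι_π W w).symm.trans (Finset.sum_eq_zero fun j _ => by rw [h0, map_zero]), map_zero]

/-- The coordinates of the image of a section of the coordinates. -/
theorem coord_semiInc_sum {W : Y.Opens} (r : Fin n → Γ(ClSub.quotMod I₀, W)) (i : Fin n) :
    (coordExtMap y I₀ p I hp b i).app W ((semiInc y I₀ p I hp b).app W
      (∑ j, (biproduct.ι (fun _ : Fin n => ClSub.quotMod I₀) j).app W (r j))) =
      (tInc y I₀ (coordMap p hp b i) I _ (socle_coord p hp b i) (coordMap_surjective p hp b i)).app W (r i) := by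
  rw [← app_comp_apply, semiInc_coord, app_comp_apply]
  refine congrArg _ ((map_sum _ _ _).trans ?_)
  rw [Finset.sum_eq_single i]
  · rw [← app_comp_apply, biproduct.ι_π_self]
    rfl
  · intro j _ hj
    rw [← app_comp_apply, biproduct.ι_π_ne _ hj, app_zero_hom]
  · exact fun h => (h (Finset.mem_univ i)).elim

include hloc in
theorem exists_of_coord (U : Y.affineOpens) (m : Γ(ClSub.idealMod I₀, U.1))
    (a : ∀ i, Γ(ext2 y I₀ (coordMap p hp b i) I, U.1))
    (ha : ∀ i, (coordπ y I₀ p I hp b i).app U.1 (a i) = (sqProj I₀).app U.1 m) :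
    ∃ e, (ext2π y I₀ p I).app U.1 e = (sqProj I₀).app U.1 m ∧
      ∀ i, (coordExtMap y I₀ p I hp b i).app U.1 e = a i := by
  obtain ⟨e, he⟩ := exists_ext2π_eq y I₀ p I hp U m
  have hdiff : ∀ i, ∃ r, (tInc y I₀ (coordMap p hp b i) I _ (socle_coord p hp b i)
      (coordMap_surjective p hp b i)).app U.1 r = a i - (coordExtMap y I₀ p I hp b i).app U.1 e := by
    intro i
    refine exists_app_f (shortExact_coord y I₀ p I hp b hloc i) U.1 _ ?_
    refine (map_sub ((coordπ y I₀ p I hp b i).app U.1).hom _ _).trans (sub_eq_zero.2 ((ha i).trans (he.symm.trans ?_)))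
    exact (congrArg (fun φ => φ.app U.1 e) (extMap_ext2π y I₀ p I _ _ (Art.quotMk_quotFactor _ _ _)).symm).trans
      (app_comp_apply _ _ _ _)
  choose r hr using hdiff
  refine ⟨e + (semiInc y I₀ p I hp b).app U.1
    (∑ j, (biproduct.ι (fun _ : Fin n => ClSub.quotMod I₀) j).app U.1 (r j)), ?_, fun i => ?_⟩
  · rw [map_add, ← app_comp_apply, semiInc_ext2π, app_zero_hom, add_zero, he]
  · rw [map_add, coord_semiInc_sum, hr]
    exact add_sub_cancel _ _

include hloc in
/-- Local lifts into every coordinate combine. -/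
theorem exists_combine (W : Y.Opens)
    (lam : ∀ i, (Scheme.Modules.restrictFunctor W.ι).obj (ClSub.idealMod I₀) ⟶
      (Scheme.Modules.restrictFunctor W.ι).obj (ext2 y I₀ (coordMap p hp b i) I))
    (hlam : ∀ i, lam i ≫ (Scheme.Modules.restrictFunctor W.ι).map (coordπ y I₀ p I hp b i) =
      (Scheme.Modules.restrictFunctor W.ι).map (sqProj I₀)) :
    ∃ l : (Scheme.Modules.restrictFunctor W.ι).obj (ClSub.idealMod I₀) ⟶
        (Scheme.Modules.restrictFunctor W.ι).obj (ext2 y I₀ p I),
      l ≫ (Scheme.Modules.restrictFunctor W.ι).map (ext2π y I₀ p I) =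
        (Scheme.Modules.restrictFunctor W.ι).map (sqProj I₀) :=
  exists_glue (ClSub.idealMod I₀) (ext2 y I₀ p I) (sqMod I₀) (ext2π y I₀ p I)
    (fun i => ext2 y I₀ (coordMap p hp b i) I) (coordExtMap y I₀ p I hp b) (coordπ y I₀ p I hp b) (sqProj I₀)
    (fun U m a ha => exists_of_coord y I₀ p I hp b hloc U m a ha)
    (fun W e e' h h' => coord_ext y I₀ p I hp b hloc h h') W lam hlam

include hloc in
/-- The projection lifts locally into the extension. -/
theorem liftsLocally_semi :
    LiftsLocally (ShortComplex.mk _ _ (semiInc_ext2π y I₀ p I hp b)) (sqProj I₀) := by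
  intro x
  have key : ∀ i, ∃ W : Y.Opens, x ∈ W ∧ ∀ V : Y.affineOpens, V.1 ≤ W → ∃ J : Ideal (SR y _ V),
      J.map (res y (coordMap p hp b i) V).hom = I.1.ideal (chart y A V) ∧
        ((Ideal.Quotient.mk J).comp (str y _ V).hom).Flat := by
    intro i
    by_cases hx : x ∈ Set.range I₀.subschemeι
    · obtain ⟨z, rfl⟩ := hx
      obtain ⟨U, hzU, J, hJ, hflat⟩ := hloc _ (isSmallExt_coord p hp b i) z
      exact ⟨U.1, hzU, fun V hV => ⟨_, restrict_lift y I₀ _ I hV hJ hflat⟩⟩
    · refine ⟨⟨(Set.range I₀.subschemeι)ᶜ, I₀.subschemeι.isClosedEmbedding.isClosed_range.isOpen_compl⟩, hx,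
        fun V hV => exists_lift_off y I₀ _ I (coordMap_surjective p hp b i) (coordMap_ker p hp b i)
          (coordMk_basis_ne_zero p hp b i) (socle_coord p hp b i).max V ?_⟩
      exact le_antisymm (fun w hw => ((hV hw) ⟨w, rfl⟩).elim) bot_le
  choose W hxW hW using key
  obtain ⟨V, hV, hxV, hle⟩ := TopologicalSpace.Opens.isBasis_iff_nbhd.1 Y.isBasis_affineOpens
    (show x ∈ (⟨⋂ i, (W i : Set Y), isOpen_iInter_of_finite fun i => (W i).2⟩ : Y.Opens) from
      Set.mem_iInter.2 hxW)
  choose J hJ hflat using fun i => hW i ⟨V, hV⟩ fun w hw => Set.mem_iInter.1 (hle hw) i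
  choose lam hlam using fun i => exists_section_on y I₀ (coordMap p hp b i) I (coordMap_surjective p hp b i)
    (coordMap_ker p hp b i) (coordMk_basis_ne_zero p hp b i) (socle_coord p hp b i).max ⟨V, hV⟩ (hJ i) (hflat i)
  exact ⟨V, hxV, exists_combine y I₀ p I hp b hloc V lam hlam⟩

end GrothLib.HilbObs26
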