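import Groth.Agent.Lib.HilbObs26.Suppliers
import Groth.Agent.Lib.HilbObs26.DualCoh
import Groth.Agent.Lib.LocalHilb26.HilbStalk
import Groth.Agent.Lib.ArtFun.RingPresent
import Groth.Agent.Lib.ArtFun.SmoothFun
import Groth.Agent.Lib.CMFree.Params
import Groth.Prelude.Def_Pi1

/-!
# Dimension bounds at a point of the Hilbert functor
-/

set_option autoImplicit false
set_option maxHeartbeats 400000
set_option backward.isDefEq.respectTransparency false
universe u

noncomputable section

open CategoryTheory CategoryTheory.Limits AlgebraicGeometry IsLocalRing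

namespace GrothLib.HilbObs26

open _root_.ArtFun _root_.ArtFun.Art GrothLib.LocalHilb26

variable {k : Type u} [Field k]

/-- A complete local algebra is a power series ring exactly when its dimension is the embedding dimension. -/
theorem smooth_iff_dim_eq (R : CRing k k) :
    IsSmoothFunctor (hR R.carrier R.res) ↔
      ringKrullDim R.carrier =
        (Module.finrank (ResidueField R.carrier) (CotangentSpace R.carrier) : WithBot ℕ∞) := by
  haveI := GrothLib.ArtFun.isAdicComplete_maximalIdeal_field (k := k)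
  rw [GrothLib.ArtFun.isSmoothFunctor_iff_powerSeries (fun c => ⟨c, rfl⟩) R]
  constructor
  · rintro ⟨n, ⟨e⟩⟩
    haveI : IsRegularLocalRing R.carrier := IsRegularLocalRing.of_ringEquiv e.symm.toRingEquiv
    rw [← IsRegularLocalRing.spanFinrank_maximalIdeal, spanFinrank_maximalIdeal_eq_finrank_cotangentSpace]
  · intro h
    obtain ⟨n, π, hπ, hker⟩ := GrothLib.ArtFun.exists_presentation_field R
    refine ⟨n, ⟨(AlgEquiv.ofBijective π ⟨(injective_iff_map_eq_zero π).2 fun f hf => ?_, hπ⟩).symm⟩⟩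
    by_contra hne
    have hdd : Module.finrank (ResidueField R.carrier) (CotangentSpace R.carrier) =
        (maximalIdeal (MvPowerSeries (Fin n) k)).spanFinrank := by
      rw [← spanFinrank_maximalIdeal_eq_finrank_cotangentSpace]
      exact (GrothLib.ArtFun.spanFinrank_maximalIdeal_eq_of_surjective π.toRingHom hπ hker).symm
    have hle : Ideal.span {f} ≤ RingHom.ker π := (Ideal.span_singleton_le_iff_mem _).2 hf
    have h1 : ringKrullDim R.carrier ≤ ringKrullDim (MvPowerSeries (Fin n) k ⧸ Ideal.span {f}) :=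
      ringKrullDim_le_of_surjective (Ideal.Quotient.liftₐ _ π fun a ha => hle ha).toRingHom fun r => by
        obtain ⟨a, rfl⟩ := hπ r
        exact ⟨Ideal.Quotient.mk _ a, rfl⟩
    have h2 := ringKrullDim_quotient_succ_le_of_nonZeroDivisor (mem_nonZeroDivisors_of_ne_zero hne)
    have h3 : ringKrullDim R.carrier + 1 ≤ ringKrullDim R.carrier := by
      refine ((add_le_add h1 le_rfl).trans h2).trans (le_of_eq ?_)
      rw [← IsRegularLocalRing.spanFinrank_maximalIdeal, ← hdd, h]
    rw [h, ← Nat.cast_one, ← Nat.cast_add] at h3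
    exact absurd (Nat.cast_le.1 h3) (by omega)

/-- A quotient of a regular local ring by as many elements as the drop of dimension is a complete intersection. -/
theorem exists_regular_quotient {R P : Type u} [CommRing R] [Nontrivial R] [CommRing P] [IsRegularLocalRing P]
    (π : P →+* R) (s : Finset P) (hπ : Function.Surjective π) (hs : Ideal.span (s : Set P) = RingHom.ker π)
    (hdim : ringKrullDim P = ringKrullDim R + (s.card : WithBot ℕ∞)) :
    ∃ rs : List P, (∀ r ∈ rs, r ∈ maximalIdeal P) ∧ RingTheory.Sequence.IsRegular P rs ∧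
      Nonempty (R ≃+* P ⧸ Ideal.span {r | r ∈ rs}) := by
  have hI : Ideal.ofList s.toList = RingHom.ker π := by
    rw [← hs]
    exact congrArg Ideal.span (Set.ext fun x => Finset.mem_toList)
  have e : R ≃+* P ⧸ Ideal.ofList s.toList :=
    (RingHom.quotientKerEquivOfSurjective hπ).symm.trans (Ideal.quotEquivOfEq hI.symm)
  refine ⟨s.toList, fun r hr => le_maximalIdeal (RingHom.ker_ne_top π) (hI.le (Ideal.subset_span hr)), ?_, ⟨e⟩⟩
  refine GrothLib.CMFree.isRegular_of_ringKrullDim_quotient P _ (hI ▸ RingHom.ker_ne_top π) (le_of_eq ?_)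
  rw [← ringKrullDim_eq_of_ringEquiv e, Finset.length_toList, hdim]

section Bounds

variable {X Y : Scheme.{u}} (y : Y ⟶ specPt k) (i : X ⟶ Y) [IsClosedImmersion i]
  [X.Over (Spec (CommRingCat.of k))] [DCoh.HasSheafHom (Omega.conormal i)]

/-- The normal sheaf. -/
abbrev normalSheaf : X.Modules := (DCoh.sheafHom (Omega.conormal i)).obj (Coh.structureModule X)

theorem finite_h1_normal [IsLocallyNoetherian Y] [IsProper (X ↘ Spec (CommRingCat.of k))] :
    Module.Finite k (Coh.HH X (normalSheaf i) 1) := by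
  haveI : IsLocallyNoetherian X := LocallyOfFiniteType.isLocallyNoetherian (X ↘ Spec (CommRingCat.of k))
  have hc : Coh.IsCoh (Omega.conormal i) :=
    ModDesc.isCoh_pullback i _
      (QCoh.isCoh_kernel (ClSub.toSubscheme i.ker) (HomSh.isCoh_structureModule Y) (QCoh.pushUnit_isCoh i.ker.subschemeι))
  exact ProjCoh.moduleFinite_HH k _ (isCoh_dual hc) 1

variable (hi : i ≫ y = X ↘ Spec (CommRingCat.of k)) (hreg : Mor2.IsRegularClosedImmersion i)

include hi hreg in
/-- The bounds for a complete local algebra representing the local Hilbert functor. -/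
theorem dims_of_universal [Module.Finite k (Coh.HH X (normalSheaf i) 1)] (R : CRing k k)
    (ξ : Family R.carrier R.res (localHilb Y y i.ker)) (hξ : ∀ A, Function.Bijective (ξ.app A)) :
    ringKrullDim R.carrier ≤ (Module.finrank k (Coh.HH X (normalSheaf i) 0) : WithBot ℕ∞) ∧
      (Module.finrank k (Coh.HH X (normalSheaf i) 0) : WithBot ℕ∞) ≤
        ringKrullDim R.carrier + (Module.finrank k (Coh.HH X (normalSheaf i) 1) : WithBot ℕ∞) ∧
      (ringKrullDim R.carrier = (Module.finrank k (Coh.HH X (normalSheaf i) 0) : WithBot ℕ∞) ↔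
        IsSmoothFunctor (localHilb Y y i.ker)) ∧
      (ringKrullDim R.carrier + (Module.finrank k (Coh.HH X (normalSheaf i) 1) : WithBot ℕ∞) =
          (Module.finrank k (Coh.HH X (normalSheaf i) 0) : WithBot ℕ∞) →
        ∃ (P : Type u) (_ : CommRing P) (_ : IsRegularLocalRing P) (rs : List P),
          (∀ r ∈ rs, r ∈ maximalIdeal P) ∧ RingTheory.Sequence.IsRegular P rs ∧
            Nonempty (R.carrier ≃+* P ⧸ Ideal.span {r | r ∈ rs})) := by
  have h2 : Heps (localHilb Y y i.ker) := fun B A' p' p'' hp => bijective_cmp y i.ker hp (Art.dual k k).res_surjective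
  obtain ⟨T⟩ := GrothLib.ArtFun.nonempty_tangentStr (h0 y i.ker) h2
  obtain ⟨e⟩ := nonempty_linearEquiv_tangent' y i hi
  have hd : Module.finrank (ResidueField R.carrier) (CotangentSpace R.carrier) =
      Module.finrank k (Coh.HH X (normalSheaf i) 0) := by
    rw [finrank_cotangent_eq_tangent R.res ξ (hξ _), e.finrank_eq]
  obtain ⟨T'⟩ := GrothLib.ArtFun.hasObsTheory_of_lifting
    (G := hR R.carrier R.res) (fun A φ => ξ.app A φ) (fun f φ => ξ.natural f φ)
    (fun B A μ _ φ u hu => by
      obtain ⟨ψ, rfl⟩ := (hξ B).2 u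
      exact ⟨ψ, (hξ A).1 ((ξ.natural μ ψ).trans hu)⟩)
    (hasObsTheory_regular y i hreg hi)
  obtain ⟨n, π, hπ, hker⟩ := GrothLib.ArtFun.exists_presentation_field R
  obtain ⟨b1, b2, -, b4⟩ := GrothLib.ArtFun.dim_bounds_of_presentation R.res π hπ hker T'
  rw [hd] at b1 b2 b4
  refine ⟨b1, b2, ?_, fun h => ?_⟩
  · rw [← hd, ← smooth_iff_dim_eq R]
    constructor
    · intro hs B A μ hμ u
      obtain ⟨φ, rfl⟩ := (hξ A).2 u
      obtain ⟨ψ, hψ⟩ := hs μ hμ φ
      exact ⟨ξ.app B ψ, (ξ.natural μ ψ).symm.trans (congrArg (ξ.app A) hψ)⟩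
    · intro hs B A μ hμ φ
      obtain ⟨u, hu⟩ := hs μ hμ (ξ.app A φ)
      obtain ⟨ψ, rfl⟩ := (hξ B).2 u
      exact ⟨ψ, (hξ A).1 ((ξ.natural μ ψ).trans hu)⟩
  · obtain ⟨P, _, _, π', s, hs1, hs2, hs3⟩ := b4 h
    exact ⟨P, inferInstance, inferInstance, exists_regular_quotient π' s hs1 hs2 hs3⟩

end Bounds

/-- A universal family on a local algebra extends to its completion. -/
theorem exists_universal_completion {S : Type u} [CommRing S] [IsLocalRing S] [IsNoetherianRing S] [Algebra k S]
    (res : S →ₐ[k] k) {F : Art k k ⥤ Type u} (ξ : Family S res F) (hξ : ∀ A, Function.Bijective (ξ.app A)) :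
    ∃ (R : CRing k k) (η : Family R.carrier R.res F), (∀ A, Function.Bijective (η.app A)) ∧
      ringKrullDim R.carrier = ringKrullDim S ∧ Nonempty (AdicCompletion (maximalIdeal S) S ≃+* R.carrier) := by
  obtain ⟨R, f, hf, hdim, -, hiso, hU⟩ := exists_local_completion S res fun c => ⟨algebraMap k _ c, res.commutes c⟩
  let r : ∀ A : Art k k, HomSet R.carrier R.res A → HomSet S res A := fun A φ =>
    ⟨φ.1.comp f, by rw [← AlgHom.comp_assoc, φ.2, hf]⟩
  refine ⟨R, ⟨fun A φ => ξ.app A (r A φ), fun g φ => ?_⟩, fun A => ⟨fun φ φ' h => ?_, fun u => ?_⟩, hdim, hiso⟩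
  · exact ξ.natural g (r _ φ)
  · exact (hU (r A φ).1 (r A φ).2).unique rfl (congrArg Subtype.val ((hξ A).1 h)).symm
  · obtain ⟨ψ₀, rfl⟩ := (hξ A).2 u
    obtain ⟨ψ, hψ, -⟩ := hU ψ₀.1 ψ₀.2
    exact ⟨ψ, congrArg (ξ.app A) (Subtype.ext hψ)⟩

end GrothLib.HilbObs26
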