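import Groth.Agent.Lib.LocalHilb26.Conormal
import Groth.Agent.Lib.LocalHilb26.Scalar
import Mathlib.CategoryTheory.Limits.Shapes.FiniteProducts
import Mathlib.CategoryTheory.Abelian.Basic

/-!
# The conormal extension of an extension killed by the maximal ideal
-/

set_option autoImplicit false
set_option backward.isDefEq.respectTransparency false
universe u

noncomputable section

open CategoryTheory CategoryTheory.Limits AlgebraicGeometry

namespace GrothLib.HilbObs26

open _root_.ArtFun _root_.ArtFun.Art GrothLib.IdealModSec GrothLib.LocalHilb26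
open GrothLib.Euler (smulMod smulMod_app)

variable {k : Type u} [Field k] {Y : Scheme.{u}} (y : Y ⟶ specPt k) (I₀ : Y.IdealSheafData) {A' A : Art k k}
  (p : A' ⟶ A) (I : (localHilb Y y I₀).obj A)

/-- An element killed by `p` and by the maximal ideal. -/
structure Socle (t : A'.carrier) : Prop where
  map_eq : p.toAlgHom t = 0
  max : ∀ a ∈ IsLocalRing.maximalIdeal A'.carrier, a * t = 0

namespace Socle

variable {p} {t : A'.carrier} (ht : Socle p t)

include ht

theorem res_eq : A'.res t = 0 := by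
  rw [← res_app p t, show p t = 0 from ht.map_eq, map_zero]

theorem mul_fibP {U : Y.affineOpens} {z : SR y A' U} (hz : (fibP y A' U).hom z = 0) :
    (str y A' U).hom t * z = 0 := by
  rw [← RingHom.mem_ker, ker_fibP] at hz
  induction hz using Submodule.span_induction with
  | mem x hx =>
    obtain ⟨a, ha, rfl⟩ := hx
    rw [← map_mul, mul_comm t a, ht.max a ha, map_zero]
  | zero => rw [mul_zero]
  | add x y _ _ hx hy => rw [mul_add, hx, hy, add_zero]
  | smul c x _ hx => rw [smul_eq_mul, mul_left_comm, hx, mul_zero]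

theorem mul_incI (U : Y.affineOpens) (z : SR y A' U) :
    (str y A' U).hom t * (incI y A' U).hom ((fibP y A' U).hom z) = (str y A' U).hom t * z := by
  rw [← sub_eq_zero, ← mul_sub]
  exact ht.mul_fibP y (by rw [map_sub, fibP_incI, sub_self])

end Socle

theorem exists_mem_Ps (hp : Function.Surjective p) {U : Y.affineOpens} {a : Γ(Y, U.1)} (ha : a ∈ I₀.ideal U) :
    ∃ z ∈ (Ps y I₀ p I).ideal (chart y A' U), (fibP y A' U).hom z = a := by
  rw [← ideal_incl y I₀ I.1 I.2.2 U] at ha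
  obtain ⟨i, hi, rfl⟩ := (Ideal.mem_map_iff_of_surjective (fibP y A U).hom fun b => ⟨_, fibP_incI y A U b⟩).1 ha
  obtain ⟨z, rfl⟩ := res_surjective y p hp U i
  exact ⟨z, (mem_Ps y I₀ p I).2 hi, (ConcreteCategory.congr_hom (res_fibP y p U) z).symm⟩

section TInc

variable (t : A'.carrier) (ht : Socle p t) (hp : Function.Surjective p)

include ht in
theorem t_mul_mem_Ps (U : Y.affineOpens) (c : SR y A' U) :
    (str y A' U).hom t * c ∈ (Ps y I₀ p I).ideal (chart y A' U) := by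
  rw [mem_Ps, map_mul, res_str, ht.map_eq, map_zero, zero_mul]
  exact Ideal.zero_mem _

include hp ht in
theorem t_incI_mem {U : Y.affineOpens} {a : Γ(Y, U.1)} (ha : a ∈ I₀.ideal U) :
    (str y A' U).hom t * (incI y A' U).hom a ∈ (K2 y I₀ p I).ideal (chart y A' U) := by
  obtain ⟨z, hz, rfl⟩ := exists_mem_Ps y I₀ p I hp ha
  rw [ht.mul_incI]
  refine Qs_le_K2 y I₀ p I U ((Qs_ideal y I₀ p I U).ge ?_)
  refine Ideal.mul_mem_mul (Ideal.mem_map_of_mem _ ?_) ((mem_Ps y I₀ p I).1 hz)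
  rw [Art.mem_maximalIdeal_iff]
  exact ht.res_eq

include hp ht in
theorem exists_tInc : ∃ f : ClSub.quotMod I₀ ⟶ ext2 y I₀ p I, ∀ (U : Y.affineOpens) a,
    (extι y I₀ p I (K2 y I₀ p I) (K2_le y I₀ p I)).app U.1 (f.app U.1 (qr I₀ U.1 a)) =
      mkN y _ U.1 ((str y A' U).hom t * (incI y A' U).hom a) := by
  obtain ⟨f, hf⟩ := exists_hom_of_surj (M := ClSub.quotMod I₀) (N := NM y (K2 y I₀ p I))
    (fun U => Γ(Y, U.1)) (fun U => qr I₀ U.1)
    (fun U a => mkN y _ U.1 ((str y A' U).hom t * (incI y A' U).hom a))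
    (qr_surjective I₀)
    (fun U a b h => by
      rw [mkN_eq_iff, ← mul_sub, ← map_sub]
      exact t_incI_mem y I₀ p I t ht hp ((qr_eq_iff I₀ U a b).1 h))
    (fun U a b => ⟨a + b, qr_add I₀ U.1 a b, by rw [map_add, mul_add, mkN_add]⟩)
    (fun U r a => ⟨r * a, qr_mul I₀ U.1 r a, by rw [mkN_smul, map_mul, mul_left_comm]⟩)
    (fun U V h a => ⟨_, (qr_map I₀ h a).symm, by
      rw [mkN_map, map_mul, incI_rs]
      exact congrArg (fun s => mkN y _ V.1 (s * _)) (ConcreteCategory.congr_hom (str_map y A' h) t).symm⟩)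
  refine ⟨kernel.lift _ f (AffHom.hom_ext fun U m => ?_), fun U a => ?_⟩
  · obtain ⟨a, rfl⟩ := qr_surjective I₀ U m
    show (qHom y I₀ p I _ (K2_le y I₀ p I)).app U.1 (f.app U.1 (qr I₀ U.1 a)) = 0
    rw [hf, qHom_mk, mkN_eq_zero_iff]
    exact t_mul_mem_Ps y I₀ p I t ht U _
  · show (kernel.lift _ f _ ≫ kernel.ι (qHom y I₀ p I _ (K2_le y I₀ p I))).app U.1 (qr I₀ U.1 a) = _
    rw [kernel.lift_ι, hf]

/-- `O/I₀ → P/(m'P + P²)`, multiplication by `t`. -/
def tInc : ClSub.quotMod I₀ ⟶ ext2 y I₀ p I := (exists_tInc y I₀ p I t ht hp).choose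

theorem tInc_spec (U : Y.affineOpens) (a : Γ(Y, U.1)) :
    (extι y I₀ p I (K2 y I₀ p I) (K2_le y I₀ p I)).app U.1 ((tInc y I₀ p I t ht hp).app U.1 (qr I₀ U.1 a)) =
      mkN y _ U.1 ((str y A' U).hom t * (incI y A' U).hom a) :=
  (exists_tInc y I₀ p I t ht hp).choose_spec U a

theorem tInc_ext2π : tInc y I₀ p I t ht hp ≫ ext2π y I₀ p I = 0 := by
  refine AffHom.hom_ext fun U m => sqMod_injective I₀ U.1 ?_
  obtain ⟨a, rfl⟩ := qr_surjective I₀ U m
  rw [app_comp_apply, ext2π_rep y I₀ p I (tInc_spec y I₀ p I t ht hp U a), app_zero_hom, map_zero,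
    map_mul, fibP_str, ht.res_eq, map_zero, zero_mul, qr_zero]

theorem hom_quotMod_ext {M : Y.Modules} {K : (XA y A').IdealSheafData}
    (hKP : ∀ U, K.ideal (chart y A' U) ≤ (Ps y I₀ p I).ideal (chart y A' U))
    {f g : M ⟶ extMod y I₀ p I K hKP}
    (h : ∀ (U : Y.affineOpens) (m : Γ(M, U.1)), (extι y I₀ p I K hKP).app U.1 (f.app U.1 m) =
      (extι y I₀ p I K hKP).app U.1 (g.app U.1 m)) : f = g :=
  AffHom.hom_ext fun U m => extι_injective y I₀ p I K hKP U.1 (h U m)

theorem tInc_eq_extInc (ht' : RingHom.ker p.toAlgHom = Ideal.span {t}) (ht0 : t ≠ 0) :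
    tInc y I₀ p I t ht hp = ext2i y I₀ p I hp ht' ht0 ht.max := by
  refine hom_quotMod_ext y I₀ p I (K2_le y I₀ p I) fun U m => ?_
  obtain ⟨a, rfl⟩ := qr_surjective I₀ U m
  rw [tInc_spec, extInc_spec]

theorem tInc_zero (h0 : Socle p (0 : A'.carrier)) : tInc y I₀ p I 0 h0 hp = 0 := by
  refine hom_quotMod_ext y I₀ p I (K2_le y I₀ p I) fun U m => ?_
  obtain ⟨a, rfl⟩ := qr_surjective I₀ U m
  rw [tInc_spec, app_zero_hom, map_zero, map_zero, zero_mul, mkN_zero]

theorem tInc_add {s : A'.carrier} (hs : Socle p s) (hst : Socle p (t + s)) :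
    tInc y I₀ p I (t + s) hst hp = tInc y I₀ p I t ht hp + tInc y I₀ p I s hs hp := by
  refine hom_quotMod_ext y I₀ p I (K2_le y I₀ p I) fun U m => ?_
  obtain ⟨a, rfl⟩ := qr_surjective I₀ U m
  show _ = (extι y I₀ p I _ (K2_le y I₀ p I)).app U.1 ((tInc y I₀ p I t ht hp).app U.1 _ + (tInc y I₀ p I s hs hp).app U.1 _)
  rw [tInc_spec, map_add (M := Γ(ext2 y I₀ p I, U.1)), tInc_spec, tInc_spec, map_add, add_mul, mkN_add]

theorem tInc_smul (c : k) (hct : Socle p (c • t)) :
    tInc y I₀ p I (c • t) hct hp = smulMod (ClSub.quotMod I₀) (Coh.toGlobal y c) ≫ tInc y I₀ p I t ht hp := by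
  refine hom_quotMod_ext y I₀ p I (K2_le y I₀ p I) fun U m => ?_
  obtain ⟨a, rfl⟩ := qr_surjective I₀ U m
  have h1 : (smulMod (ClSub.quotMod I₀) (Coh.toGlobal y c)).app U.1 (qr I₀ U.1 a) = qr I₀ U.1 ((strY y U).hom c * a) :=
    (qr_mul I₀ U.1 ((strY y U).hom c) a).symm
  rw [app_comp_apply, h1, tInc_spec, tInc_spec, map_mul]
  refine congrArg (mkN y _ U.1) ?_
  rw [show (incI y A' U).hom ((strY y U).hom c) = (str y A' U).hom (algebraMap k A'.carrier c) from
    (ConcreteCategory.congr_hom (isPushout_incI y A' U).w c).symm, ← mul_assoc, ← map_mul, Algebra.smul_def, mul_comm t]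

end TInc

section Map

variable {A'' : Art k k} (q : A' ⟶ A'') (p' : A'' ⟶ A) (hqp : q ≫ p' = p)

include hqp in
theorem res_res (U : Y.affineOpens) (z : SR y A' U) :
    (res y p' U).hom ((res y q U).hom z) = (res y p U).hom z := by
  exact ConcreteCategory.congr_hom ((res_comp y q p' U).trans (by rw [hqp])) z

include hqp in
theorem res_mem_Ps {U : Y.affineOpens} {z : SR y A' U} (hz : z ∈ (Ps y I₀ p I).ideal (chart y A' U)) :
    (res y q U).hom z ∈ (Ps y I₀ p' I).ideal (chart y A'' U) := by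
  rw [mem_Ps, res_res y p q p' hqp]
  exact (mem_Ps y I₀ p I).1 hz

include hqp in
theorem res_mem_K2 {U : Y.affineOpens} {z : SR y A' U} (hz : z ∈ (K2 y I₀ p I).ideal (chart y A' U)) :
    (res y q U).hom z ∈ (K2 y I₀ p' I).ideal (chart y A'' U) := by
  rw [K2_ideal] at hz ⊢
  obtain ⟨a, ha, b, hb, rfl⟩ := Submodule.mem_sup.1 hz
  rw [map_add]
  refine Submodule.add_mem_sup ?_ ?_
  · rw [Qs_ideal] at ha ⊢
    refine Submodule.mul_induction_on ha (fun u hu v hv => ?_) fun u v hu hv => by rw [map_add]; exact add_mem hu hv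
    rw [map_mul]
    refine Ideal.mul_mem_mul ?_ (show (res y p' U).hom ((res y q U).hom v) ∈ I.1.ideal (chart y A U) by rw [res_res y p q p' hqp]; exact hv)
    rw [← ker_fibP, RingHom.mem_ker] at hu ⊢
    exact (ConcreteCategory.congr_hom (res_fibP y q U) u).trans hu
  · refine Submodule.mul_induction_on hb (fun u hu v hv => ?_) fun u v hu hv => by rw [map_add]; exact add_mem hu hv
    rw [map_mul]
    exact Ideal.mul_mem_mul (res_mem_Ps y I₀ p I q p' hqp hu) (res_mem_Ps y I₀ p I q p' hqp hv)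

include hqp in
theorem exists_nmMap : ∃ f : NM y (K2 y I₀ p I) ⟶ NM y (K2 y I₀ p' I),
    ∀ (U : Y.affineOpens) z, f.app U.1 (mkN y _ U.1 z) = mkN y _ U.1 ((res y q U).hom z) :=
  exists_hom_NM y (K2 y I₀ p I) _ (fun U z => mkN y _ U.1 ((res y q U).hom z))
    (fun U a b => by rw [map_add, mkN_add])
    (fun U z hz => (mkN_eq_zero_iff y _ U _).2 (res_mem_K2 y I₀ p I q p' hqp hz))
    (fun U r z => by
      rw [map_mul, mkN_smul, show (res y q U).hom ((incI y A' U).hom r) = (incI y A'' U).hom r from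
        ConcreteCategory.congr_hom (incI_res y q U) r])
    (fun U V h z => by
      rw [mkN_map, show (res y q V).hom ((rs y A' h).hom z) = (rs y A'' h).hom ((res y q U).hom z) from
        (ConcreteCategory.congr_hom (res_map y q h) z).symm])

include hqp in
theorem exists_extMap : ∃ f : ext2 y I₀ p I ⟶ ext2 y I₀ p' I,
    ∀ (U : Y.affineOpens) e z, (extι y I₀ p I _ (K2_le y I₀ p I)).app U.1 e = mkN y _ U.1 z →
      (extι y I₀ p' I _ (K2_le y I₀ p' I)).app U.1 (f.app U.1 e) = mkN y _ U.1 ((res y q U).hom z) := by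
  obtain ⟨g, hg⟩ := exists_nmMap y I₀ p I q p' hqp
  refine ⟨kernel.lift _ (extι y I₀ p I _ (K2_le y I₀ p I) ≫ g) (AffHom.hom_ext fun U e => ?_), fun U e z he => ?_⟩
  · obtain ⟨z, hz, he⟩ := exists_rep y I₀ p I _ (K2_le y I₀ p I) U e
    show (qHom y I₀ p' I _ (K2_le y I₀ p' I)).app U.1 (g.app U.1 ((extι y I₀ p I _ _).app U.1 e)) = 0
    rw [he, hg, qHom_mk, mkN_eq_zero_iff]
    exact res_mem_Ps y I₀ p I q p' hqp hz
  · show (kernel.lift _ _ _ ≫ kernel.ι (qHom y I₀ p' I _ (K2_le y I₀ p' I))).app U.1 e = _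
    rw [kernel.lift_ι, app_comp_apply, he, hg]

/-- Functoriality of the extension in the extension of rings. -/
def extMap : ext2 y I₀ p I ⟶ ext2 y I₀ p' I := (exists_extMap y I₀ p I q p' hqp).choose

theorem extMap_spec {U : Y.affineOpens} {e : Γ(ext2 y I₀ p I, U.1)} {z : SR y A' U}
    (he : (extι y I₀ p I _ (K2_le y I₀ p I)).app U.1 e = mkN y _ U.1 z) :
    (extι y I₀ p' I _ (K2_le y I₀ p' I)).app U.1 ((extMap y I₀ p I q p' hqp).app U.1 e) =
      mkN y _ U.1 ((res y q U).hom z) :=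
  (exists_extMap y I₀ p I q p' hqp).choose_spec U e z he

theorem extMap_ext2π : extMap y I₀ p I q p' hqp ≫ ext2π y I₀ p' I = ext2π y I₀ p I := by
  refine AffHom.hom_ext fun U e => sqMod_injective I₀ U.1 ?_
  obtain ⟨z, hz, he⟩ := exists_rep y I₀ p I _ (K2_le y I₀ p I) U e
  rw [app_comp_apply, ext2π_rep y I₀ p' I (extMap_spec y I₀ p I q p' hqp he), ext2π_rep y I₀ p I he,
    show (fibP y A'' U).hom ((res y q U).hom z) = (fibP y A' U).hom z from
      ConcreteCategory.congr_hom (res_fibP y q U) z]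

theorem tInc_extMap (t : A'.carrier) (ht : Socle p t) (hp : Function.Surjective p)
    (ht' : Socle p' (q.toAlgHom t)) (hp' : Function.Surjective p') :
    tInc y I₀ p I t ht hp ≫ extMap y I₀ p I q p' hqp = tInc y I₀ p' I (q.toAlgHom t) ht' hp' := by
  refine hom_quotMod_ext y I₀ p' I (K2_le y I₀ p' I) fun U m => ?_
  obtain ⟨a, rfl⟩ := qr_surjective I₀ U m
  rw [app_comp_apply, extMap_spec y I₀ p I q p' hqp (tInc_spec y I₀ p I t ht hp U a), tInc_spec, map_mul, res_str,
    show (res y q U).hom ((incI y A' U).hom a) = (incI y A'' U).hom a from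
      ConcreteCategory.congr_hom (incI_res y q U) a]

end Map

end GrothLib.HilbObs26
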