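import Groth.Agent.Lib.HilbObs26.SemiExt
import Groth.Agent.Lib.LocalHilb26.Fibre
import Groth.Prelude.Def_ArtFun3

/-!
# The conormal sequence of an extension killed by the maximal ideal
-/

set_option autoImplicit false
set_option backward.isDefEq.respectTransparency false
universe u

noncomputable section

open CategoryTheory CategoryTheory.Limits AlgebraicGeometry

namespace GrothLib.HilbObs26

open _root_.ArtFun _root_.ArtFun.Art GrothLib.IdealModSec GrothLib.LocalHilb26

instance hasFiniteBiproducts_modules (X : Scheme.{u}) : HasFiniteBiproducts X.Modules :=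
  Abelian.hasFiniteBiproducts

theorem app_injective_of_mono {X : Scheme.{u}} {M N : X.Modules} (f : M ⟶ N) [Mono f] (W : X.Opens) :
    Function.Injective (f.app W) := by
  rw [injective_iff_map_eq_zero]
  intro m hm
  obtain ⟨e, rfl⟩ := (app_kernel f W).2 m hm
  rw [show kernel.ι f = 0 from (cancel_mono f).1 (by rw [kernel.condition, zero_comp]), app_zero_hom]

variable {k : Type u} [Field k] {Y : Scheme.{u}} (y : Y ⟶ specPt k) (I₀ : Y.IdealSheafData) {A' A : Art k k}
  (p : A' ⟶ A) (I : (localHilb Y y I₀).obj A)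

/-- Flat lifts exist locally along all small extensions. -/
def HasLocalLifts : Prop :=
  ∀ {B : Art k k} (p' : B ⟶ A), Art.IsSmallExt p' → ∀ z : I₀.subscheme,
    ∃ U : Y.affineOpens, I₀.subschemeι z ∈ U.1 ∧
      ∃ J : Ideal (SR y B U), J.map (res y p' U).hom = I.1.ideal (chart y A U) ∧
        ((Ideal.Quotient.mk J).comp (str y B U).hom).Flat

variable (hp : Art.IsSemismallExt p)

include hp in
theorem socle_of_mem {t : A'.carrier} (ht : t ∈ RingHom.ker p.toAlgHom) : Socle p t :=
  ⟨ht, fun a ha => by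
    have := Ideal.mul_mem_mul ha ht
    rwa [hp.2, Ideal.mem_bot] at this⟩

variable {n : ℕ} (b : Module.Basis (Fin n) k ↥(RingHom.ker p.toAlgHom))

include hp in
theorem socle_basis (j : Fin n) : Socle p (b j : A'.carrier) := socle_of_mem p hp (b j).2

/-- The inclusion `(O/I₀)ⁿ → P/(m'P + P²)`. -/
def semiInc : (⨁ fun _ : Fin n => ClSub.quotMod I₀) ⟶ ext2 y I₀ p I :=
  biproduct.desc fun j => tInc y I₀ p I (b j : A'.carrier) (socle_basis p hp b j) hp.1

theorem ι_semiInc (j : Fin n) :
    biproduct.ι (fun _ : Fin n => ClSub.quotMod I₀) j ≫ semiInc y I₀ p I hp b =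
      tInc y I₀ p I (b j : A'.carrier) (socle_basis p hp b j) hp.1 :=
  biproduct.ι_desc _ _

theorem semiInc_ext2π : semiInc y I₀ p I hp b ≫ ext2π y I₀ p I = 0 :=
  biproduct.hom_ext' _ _ fun j => by
    rw [← Category.assoc, ι_semiInc, tInc_ext2π, comp_zero]

/-- The other basis vectors. -/
def others (i : Fin n) : Ideal A'.carrier := Ideal.span {x | ∃ j, j ≠ i ∧ x = (b j : A'.carrier)}

theorem others_le_ker (i : Fin n) : others p b i ≤ RingHom.ker p.toAlgHom :=
  Ideal.span_le.2 (by rintro _ ⟨j, -, rfl⟩; exact (b j).2)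

include hp in
theorem others_le_max (i : Fin n) : others p b i ≤ IsLocalRing.maximalIdeal A'.carrier :=
  Ideal.span_le.2 (by
    rintro _ ⟨j, -, rfl⟩
    exact (Art.mem_maximalIdeal_iff A' _).2 (socle_basis p hp b j).res_eq)

include hp in
theorem coord_others {i : Fin n} {x : A'.carrier} (hx : x ∈ others p b i) :
    ∃ h : x ∈ RingHom.ker p.toAlgHom, b.repr ⟨x, h⟩ i = 0 := by
  induction hx using Submodule.span_induction with
  | mem x hx =>
    obtain ⟨j, hj, rfl⟩ := hx
    exact ⟨(b j).2, by rw [Subtype.coe_eta, b.repr_self, Finsupp.single_apply, if_neg hj]⟩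
  | zero => exact ⟨Ideal.zero_mem _, by rw [show (⟨0, _⟩ : ↥(RingHom.ker p.toAlgHom)) = 0 from rfl, map_zero]; rfl⟩
  | add x x' _ _ hx hx' =>
    obtain ⟨h, e⟩ := hx
    obtain ⟨h', e'⟩ := hx'
    refine ⟨Ideal.add_mem _ h h', ?_⟩
    rw [show (⟨x + x', _⟩ : ↥(RingHom.ker p.toAlgHom)) = ⟨x, h⟩ + ⟨x', h'⟩ from rfl, map_add,
      Finsupp.add_apply, e, e', add_zero]
  | smul c x _ hx =>
    obtain ⟨h, e⟩ := hx
    refine ⟨Ideal.mul_mem_left _ c h, ?_⟩
    rw [show (⟨c • x, _⟩ : ↥(RingHom.ker p.toAlgHom)) = A'.res c • ⟨x, h⟩ from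
      Subtype.ext ((GrothLib.ArtFun.smul_eq_of_semismall hp h).trans rfl), map_smul,
      Finsupp.smul_apply, e, smul_zero]

/-- The small extension on the `i`-th coordinate. -/
abbrev coordMk (i : Fin n) := Art.quotMk A' (others p b i) (others_le_max p hp b i)

/-- Its map to `A`. -/
abbrev coordMap (i : Fin n) := Art.quotFactor (others_le_max p hp b i) p (others_le_ker p b i)

theorem coordMk_basis_ne_zero (i : Fin n) : (coordMk p hp b i).toAlgHom (b i : A'.carrier) ≠ 0 := by
  intro h
  have h' : (b i : A'.carrier) ∈ others p b i := Ideal.Quotient.eq_zero_iff_mem.1 h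
  obtain ⟨_, e⟩ := coord_others p hp b h'
  rw [Subtype.coe_eta, b.repr_self, Finsupp.single_eq_same] at e
  exact one_ne_zero e

theorem coordMk_basis_ne (i j : Fin n) (hj : j ≠ i) : (coordMk p hp b i).toAlgHom (b j : A'.carrier) = 0 :=
  Ideal.Quotient.eq_zero_iff_mem.2 (Ideal.subset_span ⟨j, hj, rfl⟩)

theorem ker_eq_span : RingHom.ker p.toAlgHom = Ideal.span (Set.range fun j => (b j : A'.carrier)) := by
  refine le_antisymm (fun x hx => ?_) (Ideal.span_le.2 (by rintro _ ⟨j, rfl⟩; exact (b j).2))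
  have h : ∑ i, b.repr ⟨x, hx⟩ i • (b i : A'.carrier) = x := by
    have h := congrArg (fun v : ↥(RingHom.ker p.toAlgHom) => (v : A'.carrier)) (b.sum_repr ⟨x, hx⟩)
    simpa only [Submodule.coe_sum, Submodule.coe_smul_of_tower] using h
  rw [← h]
  refine Ideal.sum_mem _ fun j _ => ?_
  show b.repr ⟨x, hx⟩ j • (b j : A'.carrier) ∈ _
  rw [Algebra.smul_def]
  exact Ideal.mul_mem_left _ _ (Ideal.subset_span ⟨j, rfl⟩)

theorem coordMap_ker (i : Fin n) :
    RingHom.ker (coordMap p hp b i).toAlgHom = Ideal.span {(coordMk p hp b i).toAlgHom (b i : A'.carrier)} := by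
  refine le_antisymm (fun x hx => ?_) (Ideal.span_le.2 (by
    rintro _ rfl
    show p.toAlgHom (b i : A'.carrier) = 0
    exact (b i).2))
  obtain ⟨a, rfl⟩ := Ideal.Quotient.mk_surjective x
  have ha : a ∈ RingHom.ker p.toAlgHom := hx
  rw [ker_eq_span p b] at ha
  have h : (Ideal.span (Set.range fun j => (b j : A'.carrier))).map (Ideal.Quotient.mk (others p b i)) ≤
      Ideal.span {(coordMk p hp b i).toAlgHom (b i : A'.carrier)} := by
    rw [Ideal.map_span, Ideal.span_le]
    rintro _ ⟨_, ⟨j, rfl⟩, rfl⟩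
    by_cases hj : j = i
    · subst hj; exact Ideal.subset_span rfl
    · rw [SetLike.mem_coe, show (Ideal.Quotient.mk (others p b i)) (b j : A'.carrier) = 0 from
        coordMk_basis_ne p hp b i j hj]
      exact Ideal.zero_mem _
  exact h (Ideal.mem_map_of_mem _ ha)

theorem coordMap_surjective (i : Fin n) : Function.Surjective (coordMap p hp b i) := fun a => by
  obtain ⟨a', rfl⟩ := hp.1 a
  exact ⟨Ideal.Quotient.mk _ a', rfl⟩

theorem socle_coord (i : Fin n) : Socle (coordMap p hp b i) ((coordMk p hp b i).toAlgHom (b i : A'.carrier)) := by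
  refine ⟨(b i).2, fun a ha => ?_⟩
  obtain ⟨a, rfl⟩ := Ideal.Quotient.mk_surjective a
  have ha' : a ∈ IsLocalRing.maximalIdeal A'.carrier :=
    (Art.mem_maximalIdeal_iff A' a).2 ((Art.mem_maximalIdeal_iff (Art.quot A' (others p b i) (others_le_max p hp b i)) (Ideal.Quotient.mk _ a)).1 ha)
  exact (map_mul (Ideal.Quotient.mk (others p b i)) a (b i : A'.carrier)).symm.trans
    ((congrArg _ ((socle_basis p hp b i).max a ha')).trans (map_zero _))

theorem isSmallExt_coord (i : Fin n) : Art.IsSmallExt (coordMap p hp b i) :=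
  GrothLib.ArtFun.isSmallExt_of_gen (coordMap_surjective p hp b i) (coordMap_ker p hp b i)
    (coordMk_basis_ne_zero p hp b i) (socle_coord p hp b i).max

/-- Projection to the coordinate extension. -/
abbrev coordExtMap (i : Fin n) : ext2 y I₀ p I ⟶ ext2 y I₀ (coordMap p hp b i) I :=
  extMap y I₀ p I (coordMk p hp b i) (coordMap p hp b i) (Art.quotMk_quotFactor _ _ _)

theorem tInc_congr {B : Art k k} (p' : B ⟶ A) (hp' : Function.Surjective p') {t s : B.carrier} (e : t = s)
    (ht : Socle p' t) (hs : Socle p' s) : tInc y I₀ p' I t ht hp' = tInc y I₀ p' I s hs hp' := by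
  subst e; rfl

theorem semiInc_coord (i : Fin n) :
    semiInc y I₀ p I hp b ≫ coordExtMap y I₀ p I hp b i =
      biproduct.π (fun _ : Fin n => ClSub.quotMod I₀) i ≫
        tInc y I₀ (coordMap p hp b i) I _ (socle_coord p hp b i) (coordMap_surjective p hp b i) := by
  refine biproduct.hom_ext' _ _ fun j => ?_
  have hs : Socle (coordMap p hp b i) ((coordMk p hp b i).toAlgHom (b j : A'.carrier)) := by
    by_cases hj : j = i
    · subst hj; exact socle_coord p hp b j
    · rw [coordMk_basis_ne p hp b i j hj]; exact ⟨map_zero _, fun a _ => mul_zero a⟩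
  rw [← Category.assoc, ι_semiInc, tInc_extMap _ _ _ _ _ _ _ _ _ _ hs (coordMap_surjective p hp b i), ← Category.assoc]
  by_cases hj : j = i
  · subst hj
    rw [biproduct.ι_π_self, Category.id_comp]
  · rw [biproduct.ι_π_ne _ hj, zero_comp,
      tInc_congr y I₀ I _ _ (coordMk_basis_ne p hp b i j hj) hs ⟨map_zero _, fun a _ => mul_zero a⟩, tInc_zero]

variable (hloc : HasLocalLifts y I₀ I)

include hloc in
theorem mono_semiInc : Mono (semiInc y I₀ p I hp b) := by
  refine Preadditive.mono_of_cancel_zero _ fun {T} g hg => biproduct.hom_ext _ _ fun i => ?_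
  rw [zero_comp]
  have h := congrArg (· ≫ coordExtMap y I₀ p I hp b i) hg
  simp only [Category.assoc, semiInc_coord, zero_comp] at h
  have ht' := coordMap_ker p hp b i
  have ht0 := coordMk_basis_ne_zero p hp b i
  have hinj := hinj_of_local y I₀ (coordMap p hp b i) I (hloc _ (isSmallExt_coord p hp b i))
    (coordMap_surjective p hp b i) ht' ht0 (socle_coord p hp b i).max
  have hS := shortExact_ext2 y I₀ (coordMap p hp b i) I (coordMap_surjective p hp b i) ht' ht0
    (socle_coord p hp b i).max hinj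
  rw [tInc_eq_extInc y I₀ _ I _ _ _ ht' ht0, ← Category.assoc] at h
  haveI := hS.mono_f
  exact (cancel_mono (ext2i y I₀ (coordMap p hp b i) I (coordMap_surjective p hp b i) ht' ht0
    (socle_coord p hp b i).max)).1 (h.trans zero_comp.symm)

include hp in
theorem exists_mul_eq' {U : Y.affineOpens} {a : Γ(Y, U.1)} (ha : a ∈ (I₀ * I₀).ideal U) :
    ∃ w ∈ (Ps y I₀ p I).ideal (chart y A' U) * (Ps y I₀ p I).ideal (chart y A' U), (fibP y A' U).hom w = a := by
  refine Submodule.mul_induction_on (show a ∈ I₀.ideal U * I₀.ideal U from ha) (fun a ha c hc => ?_)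
    fun a c ⟨v, hv, ev⟩ ⟨w, hw, ew⟩ => ⟨v + w, add_mem hv hw, by rw [map_add, ev, ew]⟩
  obtain ⟨z, hz, rfl⟩ := exists_mem_Ps y I₀ p I hp.1 ha
  obtain ⟨z', hz', rfl⟩ := exists_mem_Ps y I₀ p I hp.1 hc
  exact ⟨z * z', Ideal.mul_mem_mul hz hz', map_mul _ _ _⟩

theorem ker_res_le_map (hs : Function.Surjective p) (U : Y.affineOpens) :
    RingHom.ker (res y p U).hom ≤ (RingHom.ker p.toAlgHom).map (str y A' U).hom := by
  set J : Ideal (SR y A' U) := (RingHom.ker p.toAlgHom).map (str y A' U).hom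
  let f : A'.carrier →+* SR y A' U ⧸ J := (Ideal.Quotient.mk J).comp (str y A' U).hom
  have hf : RingHom.ker p.toAlgHom.toRingHom ≤ RingHom.ker f := fun a ha =>
    Ideal.Quotient.eq_zero_iff_mem.2 (Ideal.mem_map_of_mem _ ha)
  let g : A.carrier →+* SR y A' U ⧸ J := RingHom.liftOfSurjective p.toAlgHom.toRingHom hs ⟨f, hf⟩
  have hg : ∀ a, g (p.toAlgHom a) = f a := fun a => RingHom.liftOfRightInverse_comp_apply _ _ _ _ a
  have hpo := isPushout_res y p U
  have w : ringMap p ≫ CommRingCat.ofHom g = str y A' U ≫ CommRingCat.ofHom (Ideal.Quotient.mk J) := by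
    ext a
    exact hg a
  intro z hz
  refine Ideal.Quotient.eq_zero_iff_mem.1 ?_
  have hd := ConcreteCategory.congr_hom (hpo.inr_desc (CommRingCat.ofHom g) (CommRingCat.ofHom (Ideal.Quotient.mk J)) w) z
  refine hd.symm.trans ?_
  show (hpo.desc _ _ w).hom ((res y p U).hom z) = 0
  rw [show (res y p U).hom z = 0 from hz, map_zero]

include hp in
theorem exists_Qs_res_eq {U : Y.affineOpens} {z : SR y A' U} (hz : z ∈ (Ps y I₀ p I).ideal (chart y A' U))
    (h0 : (fibP y A' U).hom z = 0) :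
    ∃ q ∈ (Qs y I₀ p I).ideal (chart y A' U), (res y p U).hom q = (res y p U).hom z := by
  letI := strAlgebra y A U
  haveI := flat_SR y A U
  haveI := flat_quot y I.2.1 U
  obtain ⟨ρ, hρ, hρ'⟩ := IsSmallLift.exists_retraction (A := A.carrier) (I := I.1.ideal (chart y A U))
  have key : ∀ x ∈ (IsLocalRing.maximalIdeal A'.carrier).map (str y A' U).hom,
      ∀ c : SR y A' U, ∃ q ∈ (Qs y I₀ p I).ideal (chart y A' U), (res y p U).hom q = ρ ((res y p U).hom (c * x)) := by
    intro x hx
    induction hx using Submodule.span_induction with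
    | mem x hx =>
      obtain ⟨a, ha, rfl⟩ := hx
      intro c
      obtain ⟨w, hw⟩ := res_surjective y p hp.1 U (ρ ((res y p U).hom c))
      refine ⟨(str y A' U).hom a * w, (Qs_ideal y I₀ p I U).ge (Ideal.mul_mem_mul (Ideal.mem_map_of_mem _ ha)
        (show (res y p U).hom w ∈ I.1.ideal (chart y A U) by rw [hw]; exact hρ _)), ?_⟩
      rw [map_mul, map_mul, hw, res_str,
        show (str y A U).hom (p.toAlgHom a) = algebraMap A.carrier (SR y A U) (p.toAlgHom a) from rfl,
        ← Algebra.smul_def, ← map_smul, Algebra.smul_def, mul_comm]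
    | zero => exact fun c => ⟨0, Ideal.zero_mem _, by simp⟩
    | add x x' _ _ hx hx' =>
      intro c
      obtain ⟨q, hq, e⟩ := hx c
      obtain ⟨q', hq', e'⟩ := hx' c
      exact ⟨q + q', Ideal.add_mem _ hq hq', by rw [mul_add, map_add, map_add, map_add, e, e']⟩
    | smul d x _ hx =>
      intro c
      rw [smul_eq_mul, ← mul_assoc]
      exact hx (c * d)
  have hzm : z ∈ (IsLocalRing.maximalIdeal A'.carrier).map (str y A' U).hom := by
    rw [← ker_fibP, RingHom.mem_ker]; exact h0
  obtain ⟨q, hq, e⟩ := key z hzm 1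
  rw [one_mul, hρ' _ ((mem_Ps y I₀ p I).1 hz)] at e
  exact ⟨q, hq, e⟩

theorem app_semiInc_sum {U : Y.affineOpens} (r : Fin n → Γ(Y, U.1)) :
    (extι y I₀ p I _ (K2_le y I₀ p I)).app U.1 ((semiInc y I₀ p I hp b).app U.1
      (∑ j, (biproduct.ι (fun _ : Fin n => ClSub.quotMod I₀) j).app U.1 (qr I₀ U.1 (r j)))) =
      mkN y _ U.1 (∑ j, (str y A' U).hom (b j : A'.carrier) * (incI y A' U).hom (r j)) := by
  rw [map_sum, map_sum]
  have hmk : mkN y (K2 y I₀ p I) U.1 (∑ j, (str y A' U).hom (b j : A'.carrier) * (incI y A' U).hom (r j)) =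
      ∑ j, mkN y (K2 y I₀ p I) U.1 ((str y A' U).hom (b j : A'.carrier) * (incI y A' U).hom (r j)) :=
    map_sum ((K2 y I₀ p I).subschemeι.app (preim y A' U.1)).hom _ _
  rw [hmk]
  refine Finset.sum_congr rfl fun j _ => ?_
  rw [← app_comp_apply _ (semiInc y I₀ p I hp b), ι_semiInc, tInc_spec]

include hloc in
/-- The conormal sequence of a semismall extension. -/
theorem shortExact_semi : (ShortComplex.mk _ _ (semiInc_ext2π y I₀ p I hp b)).ShortExact := by
  haveI := mono_semiInc y I₀ p I hp b hloc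
  refine shortExact_of_affine _ _ _ (fun U => app_injective_of_mono _ U.1) (fun U m => ?_) fun U e he => ?_
  · obtain ⟨m, rfl⟩ := sqProj_surjective I₀ U m
    obtain ⟨z, hz, hz'⟩ := exists_mem_Ps y I₀ p I hp.1 (val_mem I₀ U m)
    obtain ⟨e, he⟩ := exists_extι_eq y I₀ p I _ (K2_le y I₀ p I) hz
    exact ⟨e, sqMod_injective I₀ U.1 (by rw [ext2π_rep y I₀ p I he, hz', sqProj_spec])⟩
  · obtain ⟨z, hz, hze⟩ := exists_rep y I₀ p I _ (K2_le y I₀ p I) U e
    have h0 := (ext2π_rep y I₀ p I hze).symm.trans (by rw [he, map_zero, ← qr_zero (I₀ * I₀) U.1])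
    rw [qr_eq_iff, sub_zero] at h0
    obtain ⟨w, hw, hwb⟩ := exists_mul_eq' y I₀ p I hp h0
    have hzw : z - w ∈ (Ps y I₀ p I).ideal (chart y A' U) :=
      Ideal.sub_mem _ hz (Ideal.mul_le_left (I := (Ps y I₀ p I).ideal (chart y A' U)) hw)
    obtain ⟨q, hq, eq'⟩ := exists_Qs_res_eq y I₀ p I hp hzw (by rw [map_sub, hwb, sub_self])
    have hker : z - w - q ∈ Ideal.span (Set.range fun j => (str y A' U).hom (b j : A'.carrier)) := by
      have h1 := ker_res_le_map y p hp.1 U (show z - w - q ∈ RingHom.ker (res y p U).hom by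
        rw [RingHom.mem_ker, map_sub, eq', sub_self])
      rw [ker_eq_span p b, Ideal.map_span, ← Set.range_comp] at h1
      exact h1
    obtain ⟨r, hr⟩ := (Ideal.mem_span_range_iff_exists_fun).1 hker
    refine ⟨_, extι_injective y I₀ p I _ _ U.1 ((app_semiInc_sum y I₀ p I hp b fun j => (fibP y A' U).hom (r j)).trans ?_)⟩
    rw [hze, eq_comm, mkN_eq_iff]
    have hsum : ∑ j, (str y A' U).hom (b j : A'.carrier) * (incI y A' U).hom ((fibP y A' U).hom (r j)) = z - w - q := by
      rw [← hr]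
      refine Finset.sum_congr rfl fun j _ => ?_
      rw [(socle_basis p hp b j).mul_incI, mul_comm]
    rw [hsum, show z - (z - w - q) = q + w by ring, K2_ideal]
    exact Submodule.add_mem_sup hq hw

end GrothLib.HilbObs26
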