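import Groth.Agent.Lib.HilbObs26.Transfer
import Groth.Agent.Lib.LocalHilb26.RegularLift
import Groth.Agent.Lib.LocalHilb26.NormalH1Imm
import Groth.Agent.Lib.SeqKinds.Basic
import Groth.Agent.Lib.SeqKinds.NoetherianLocal
import Groth.Agent.Lib.RegSeqLoc.Scheme
import Groth.Prelude.Def_RegImm

/-!
# Complete intersections have local lifts
-/

set_option autoImplicit false
set_option backward.isDefEq.respectTransparency false
universe u

noncomputable section

open CategoryTheory CategoryTheory.Limits AlgebraicGeometry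

namespace GrothLib.HilbObs26

open _root_.ArtFun _root_.ArtFun.Art GrothLib.LocalHilb26

variable {k : Type u} [Field k] {Y : Scheme.{u}} (y : Y ⟶ specPt k)

/-- Regular immersions have local lifts. -/
theorem hasLocalLifts_of_regular (I₀ : Y.IdealSheafData) (hreg : Mor2.IsRegularClosedImmersion I₀.subschemeι)
    {A : Art k k} (I : (localHilb Y y I₀).obj A) : HasLocalLifts y I₀ I :=
  fun p' hp' z => hloc_of_regular y I₀ p' I hreg hp' z

/-- A Koszul-regular ideal of a locally Noetherian scheme is locally generated by regular sequences. -/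
theorem isRegularClosedImmersion_of_koszul [IsLocallyNoetherian Y] (I₀ : Y.IdealSheafData)
    (h : RegImm.IsRegularIdeal RegImm.Kind.koszul I₀) : Mor2.IsRegularClosedImmersion I₀.subschemeι := by
  refine ⟨inferInstance, fun z => ?_⟩
  have hz : I₀.subschemeι z ∈ I₀.support := by
    have : I₀.subschemeι z ∈ Set.range I₀.subschemeι := ⟨z, rfl⟩
    rwa [I₀.range_subschemeι] at this
  obtain ⟨U, hzU, rs, hrs, hI⟩ := h _ hz
  haveI : IsNoetherianRing Γ(Y, U.1) := IsLocallyNoetherian.component_noetherian U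
  let x := I₀.subschemeι z
  let φ := (Y.presheaf.germ U.1 x hzU).hom
  letI : Algebra Γ(Y, U.1) (Y.presheaf.stalk x) :=
    TopCat.Presheaf.algebra_section_stalk Y.presheaf (⟨x, hzU⟩ : U.1)
  haveI := U.2.isLocalization_stalk ⟨x, hzU⟩
  have hφ : φ.Flat := RingHom.flat_algebraMap_iff.2
    (IsLocalization.flat (Y.presheaf.stalk x) (U.2.primeIdealOf ⟨x, hzU⟩).asIdeal.primeCompl)
  haveI : IsNoetherianRing (Y.presheaf.stalk x) :=
    IsLocalization.isNoetherianRing (U.2.primeIdealOf ⟨x, hzU⟩).asIdeal.primeCompl _ inferInstance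
  have hk := GrothLib.RegSeqLoc.ker_stalkMap I₀.subschemeι z U hzU
  rw [Scheme.IdealSheafData.ker_subschemeι] at hk
  have hm : ∀ j : Fin rs.length, φ (rs.get j) ∈ IsLocalRing.maximalIdeal (Y.presheaf.stalk x) := by
    intro j
    refine IsLocalRing.le_maximalIdeal (RingHom.ker_ne_top (I₀.subschemeι.stalkMap z).hom) ?_
    rw [hk, hI]
    exact Ideal.mem_map_of_mem φ (Ideal.subset_span (rs.get_mem j))
  have hreg := GrothLib.SeqKinds.isRegular_of_isQuasiRegular (φ ∘ rs.get) hm
    (GrothLib.SeqKinds.isQuasiRegular_map φ hφ rs.get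
      (GrothLib.SeqKinds.isQuasiRegular_of_isH1Regular _ (GrothLib.SeqKinds.isH1Regular_of_isKoszulRegularSeq rs hrs)))
  have hlist : List.ofFn (φ ∘ rs.get) = rs.map φ := by rw [← List.map_ofFn, List.ofFn_get]
  obtain ⟨g, hzg, rs', hreg', hI'⟩ := GrothLib.RegSeqLoc.exists_basicOpen_isRegular U.2 hzU (I₀.ideal U) (rs.map φ)
    (hlist ▸ hreg) (by rw [hI, Ideal.map_ofList])
  refine ⟨Y.basicOpen g, U.2.basicOpen g, hzg, rs', hreg', ?_⟩
  rw [Scheme.IdealSheafData.ker_subschemeι]
  exact (I₀.map_ideal (U := ⟨Y.basicOpen g, U.2.basicOpen g⟩) (V := U) (Y.basicOpen_le g)).symm.trans hI'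

/-- The obstruction theory of the closed subscheme of an ideal sheaf. -/
theorem hasObsTheory_subscheme (I₀ : Y.IdealSheafData) (hL : Mor2.IsRegularClosedImmersion I₀.subschemeι)
    [I₀.subscheme.Over (Spec (CommRingCat.of k))] [DCoh.HasSheafHom (Omega.conormal I₀.subschemeι)]
    (hi : I₀.subschemeι ≫ y = I₀.subscheme ↘ Spec (CommRingCat.of k)) :
    HasObsTheory (localHilb Y y I₀)
      (Coh.HH I₀.subscheme ((DCoh.sheafHom (Omega.conormal I₀.subschemeι)).obj
        (Coh.structureModule I₀.subscheme)) 1) := by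
  have key : ∀ J : Y.IdealSheafData, J = I₀.subschemeι.ker → Mor2.IsRegularClosedImmersion J.subschemeι →
      HasObsTheory (localHilb Y y J) (Coh.HH I₀.subscheme ((DCoh.sheafHom (Omega.conormal I₀.subschemeι)).obj
        (Coh.structureModule I₀.subscheme)) 1) := by
    rintro J rfl hJ
    exact hasObsTheory_h1_normal y I₀.subschemeι hi fun I => hasLocalLifts_of_regular y _ hJ I
  exact key I₀ (Scheme.IdealSheafData.ker_subschemeι I₀).symm hL

/-- The obstruction theory of a regular closed immersion. -/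
theorem hasObsTheory_regular {X : Scheme.{u}} [X.Over (Spec (CommRingCat.of k))] (i : X ⟶ Y) [IsClosedImmersion i]
    (hreg : Mor2.IsRegularClosedImmersion i) [DCoh.HasSheafHom (Omega.conormal i)]
    (hi : i ≫ y = X ↘ Spec (CommRingCat.of k)) :
    HasObsTheory (localHilb Y y i.ker)
      (Coh.HH X ((DCoh.sheafHom (Omega.conormal i)).obj (Coh.structureModule X)) 1) :=
  hasObsTheory_h1_normal y i hi fun I => hasLocalLifts_of_regular y _ (isRegularClosedImmersion_ker i hreg) I

end GrothLib.HilbObs26
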