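import Groth.Agent.Lib.HilbObs26.Theory
import Groth.Agent.Lib.HilbObs26.ClosedPush
import Groth.Agent.Lib.LocalHilb26.Closed
import Groth.Agent.Lib.Torsor26.HomPush
import Groth.Agent.Lib.ArtFun.RingPresent

/-!
# The obstruction space `H¹` of the normal sheaf
-/

set_option autoImplicit false
set_option backward.isDefEq.respectTransparency false
universe u

noncomputable section

open CategoryTheory CategoryTheory.Limits AlgebraicGeometry

namespace GrothLib.HilbObs26

open _root_.ArtFun _root_.ArtFun.Art GrothLib.LocalHilb26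

variable {k : Type u} [Field k] {X Y : Scheme.{u}} (y : Y ⟶ specPt k) (i : X ⟶ Y) [IsClosedImmersion i]
  [X.Over (Spec (CommRingCat.of k))]

attribute [local instance] LocFreeHom.hasSheafHom in
theorem nonempty_obsSpace_equiv [Y.Over (Spec (CommRingCat.of k))]
    (hi : i ≫ Y ↘ Spec (CommRingCat.of k) = X ↘ Spec (CommRingCat.of k)) :
    Nonempty (Coh.HH Y (obsSheaf i.ker) 1 ≃ₗ[k]
      Coh.HH X ((DCoh.sheafHom (Omega.conormal i)).obj (Coh.structureModule X)) 1) := by
  obtain ⟨e⟩ := nonempty_HH_linearEquiv_closed (A := k) i hi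
    ((DCoh.sheafHom (Omega.conormal i)).obj (Coh.structureModule X)) 1
  let φ : obsSheaf i.ker ≅ (Scheme.Modules.pushforward i).obj
      ((DCoh.sheafHom (Omega.conormal i)).obj (Coh.structureModule X)) :=
    (DCoh.sheafHom (ClSub.idealMod i.ker)).mapIso (pushUnitIsoQuot i).symm ≪≫
      (Torsor26.homPushIso i (ClSub.idealMod i.ker)).app (Coh.structureModule X)
  refine ⟨(LinearEquiv.ofBijective (Cohom.hhMap k φ.hom 1)
    ⟨Function.LeftInverse.injective (g := Cohom.hhMap k φ.inv 1) fun x => ?_,
      Function.RightInverse.surjective (g := Cohom.hhMap k φ.inv 1) fun x => ?_⟩).trans e.symm⟩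
  · rw [← hhMap_comp', φ.hom_inv_id, Cohom.hhMap_apply, CategoryTheory.Functor.map_id, Sheaf.H.map_id_apply]
  · rw [← hhMap_comp', φ.inv_hom_id, Cohom.hhMap_apply, CategoryTheory.Functor.map_id, Sheaf.H.map_id_apply]

variable [DCoh.HasSheafHom (Omega.conormal i)] (hi : i ≫ y = X ↘ Spec (CommRingCat.of k))

include hi in
/-- Local lifts along small extensions give an obstruction theory with values in `H¹` of the normal sheaf. -/
theorem hasObsTheory_h1_normal
    (hL : ∀ {A : Art k k} (I : (localHilb Y y i.ker).obj A), HasLocalLifts y i.ker I) :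
    HasObsTheory (localHilb Y y i.ker)
      (Coh.HH X ((DCoh.sheafHom (Omega.conormal i)).obj (Coh.structureModule X)) 1) := by
  letI : Y.Over (Spec (CommRingCat.of k)) := ⟨y⟩
  obtain ⟨e⟩ := nonempty_obsSpace_equiv (k := k) i hi
  exact GrothLib.ArtFun.hasObsTheory_congr e (hasObsTheory_Y y i.ker rfl hL)

end GrothLib.HilbObs26
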